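import Cfsg.Agent.Lib.Transfer.ThompsonTransfer
import Cfsg.Agent.Lib.OddLocal.Final.OddOrder
import Cfsg.Agent.Lib.Signalizer.Involutions
import Cfsg.Agent.Lib.Core.Cores

/-!
# Subgroups whose elements outside an abelian subgroup of index two are involutions

`dg_or_elementary`: such a centraliser is elementary abelian or generalised dihedral.
-/

set_option autoImplicit false

namespace CfsgLib.GW.DGroup

open Subgroup

universe u

variable {G : Type u} [Group G]

/-- A generalised dihedral subgroup containing the centraliser of each of its central involutions. -/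
structure DG (H A : Subgroup G) : Prop where
  le : A ≤ H
  two : A.relIndex H = 2
  comm : ∀ a ∈ A, ∀ b ∈ A, a * b = b * a
  sq : ∀ y ∈ H, y ∉ A → y * y = 1
  inverts : ∀ y ∈ H, y ∉ A → ∀ a ∈ A, y * a * y⁻¹ = a⁻¹
  big : ∃ a ∈ A, a * a ≠ 1
  cen : ∀ j ∈ A, orderOf j = 2 → centralizer ({j} : Set G) = H
  even : ∃ j ∈ A, orderOf j = 2

theorem dg_or_elementary [Finite G] (H A : Subgroup G) (hAH : A < H)
    (hD : ∀ x ∈ H, x ∉ A → x ^ 2 = 1) (h4 : 4 ∣ Nat.card H)
    (hC : ∀ j ∈ H, orderOf j = 2 → (∀ h ∈ H, h * j = j * h) → centralizer ({j} : Set G) = H) :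
    (∀ h ∈ H, h * h = 1) ∨ DG H A := by
  refine or_iff_not_imp_left.2 fun hne => ?_
  push Not at hne
  obtain ⟨h₀, h₀H, h₀2⟩ := hne
  have hsq : ∀ y ∈ H, y ∉ A → y * y = 1 := fun y hy hy' => by rw [← pow_two]; exact hD y hy hy'
  have h₀A : h₀ ∈ A := by
    by_contra h
    exact h₀2 (hsq _ h₀H h)
  obtain ⟨x, hxH, hxA⟩ := SetLike.exists_of_lt hAH
  have hinv : ∀ y ∈ H, y ∉ A → ∀ a ∈ A, y * a * y⁻¹ = a⁻¹ := by
    intro y hy hy' a ha
    have h1 := hsq _ (mul_mem hy (hAH.le ha)) fun h => hy' ((mul_mem_cancel_right ha).1 h)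
    calc y * a * y⁻¹ = y * a * (y * a) * a⁻¹ * (y * y)⁻¹ := by group
      _ = a⁻¹ := by rw [h1, hsq y hy hy']; group
  have hcomm : ∀ a ∈ A, ∀ b ∈ A, a * b = b * a := by
    intro a ha b hb
    have h := hinv x hxH hxA _ (mul_mem ha hb)
    rw [show x * (a * b) * x⁻¹ = x * a * x⁻¹ * (x * b * x⁻¹) by group, hinv x hxH hxA a ha,
      hinv x hxH hxA b hb, ← mul_inv_rev, inv_inj] at h
    exact h.symm
  have htwo : A.relIndex H = 2 := by
    refine relIndex_eq_two_iff.2 ⟨x, hxH, fun b hb => ?_⟩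
    by_cases hbA : b ∈ A
    · exact Or.inr ⟨hbA, fun h => hxA ((mul_mem_cancel_left hbA).1 h)⟩
    · refine Or.inl ⟨by_contra fun h => ?_, hbA⟩
      have e1 := hinv _ (mul_mem hb hxH) h h₀ h₀A
      rw [show b * x * h₀ * (b * x)⁻¹ = b * (x * h₀ * x⁻¹) * b⁻¹ by group, hinv x hxH hxA h₀ h₀A,
        hinv b hb hbA _ (inv_mem h₀A), inv_inv] at e1
      exact h₀2 (mul_eq_one_iff_eq_inv.2 e1)
  have hcard : Nat.card A * 2 = Nat.card H := by
    rw [← htwo, relIndex, ← Nat.card_congr (subgroupOfEquivOfLe hAH.le).toEquiv,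
      card_mul_index]
  refine ⟨hAH.le, htwo, hcomm, hsq, hinv, ⟨h₀, h₀A, h₀2⟩, fun j hjA hj => ?_, ?_⟩
  · refine hC j (hAH.le hjA) hj fun h hh => ?_
    by_cases hA : h ∈ A
    · exact hcomm h hA j hjA
    · have e := hinv h hh hA j hjA
      rw [inv_eq_of_mul_eq_one_right (CfsgLib.Signalizer.involution_sq hj)] at e
      exact mul_inv_eq_iff_eq_mul.1 e
  · have h2 : 2 ∣ Nat.card A := by omega
    haveI : Fact (Nat.Prime 2) := ⟨Nat.prime_two⟩
    obtain ⟨⟨j, hjA⟩, hj⟩ := exists_prime_orderOf_dvd_card' 2 h2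
    exact ⟨j, hjA, by rwa [orderOf_mk] at hj⟩

/-- A group of odd order modulo a normal 2-subgroup, or with cyclic Sylow 2-subgroup, is solvable. -/
theorem isSolvable_of_normal_sylow [Finite G] (P : Sylow 2 G) (h : (P : Subgroup G).Normal) :
    Group.IsSolvable G := by
  haveI : Fact (Nat.Prime 2) := ⟨Nat.prime_two⟩
  haveI := P.2.isNilpotent
  haveI : Group.IsSolvable (G ⧸ (P : Subgroup G)) :=
    CfsgLib.OddLocal.FTFinal.odd_order_solvable (by
      rw [← index_eq_card, ← Nat.not_even_iff_odd, even_iff_two_dvd]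
      exact P.not_dvd_index)
  exact Group.isSolvable_of_ker_le_range (P : Subgroup G).subtype (QuotientGroup.mk' (P : Subgroup G)) (by simp)

theorem isSolvable_of_cyclic_sylow [Finite G] (P : Sylow 2 G) (hP : IsCyclic (P : Subgroup G)) :
    Group.IsSolvable G := by
  haveI : Fact (Nat.Prime 2) := ⟨Nat.prime_two⟩
  by_cases h2 : 2 ∣ Nat.card G
  · have hmin : (Nat.card G).minFac = 2 := (Nat.minFac_eq_two_iff _).2 h2
    set τ := MonoidHom.transferSylow P (hP.normalizer_le_centralizer hmin)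
    haveI : Group.IsSolvable τ.ker := CfsgLib.OddLocal.FTFinal.odd_order_solvable (by
      rw [← Nat.not_even_iff_odd, even_iff_two_dvd]
      exact MonoidHom.not_dvd_card_ker_transferSylow P _)
    haveI := P.2.isNilpotent
    exact Group.isSolvable_of_ker_le_range τ.ker.subtype τ (by simp)
  · exact CfsgLib.OddLocal.FTFinal.odd_order_solvable
      (Nat.not_even_iff_odd.1 fun h => h2 (even_iff_two_dvd.1 h))

namespace DG

variable [Finite G] {H A : Subgroup G} (D : DG H A)

include D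

theorem index_subgroupOf : (A.subgroupOf H).index = 2 := D.two

theorem not_le {Q : Subgroup G} (hQ : Q ≤ H) (hodd : ¬ 2 ∣ (Q.subgroupOf H).index) : ¬ Q ≤ A :=
  fun h => hodd (by
    rw [← D.index_subgroupOf]
    exact index_dvd_of_le ((comap_mono h : Q.subgroupOf H ≤ A.subgroupOf H)))

theorem mul_mem_of_not_mem {y y' : G} (hy : y ∈ H) (hy' : y' ∈ H) (h : y ∉ A) (h' : y' ∉ A) :
    y * y' ∈ A := by
  have := (mul_mem_iff_of_index_two D.index_subgroupOf (a := (⟨y, hy⟩ : H)) (b := ⟨y', hy'⟩)).2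
    (iff_of_false (fun e => h (mem_subgroupOf.1 e)) fun e => h' (mem_subgroupOf.1 e))
  exact mem_subgroupOf.1 this

theorem conj_mem {a h : G} (ha : a ∈ A) (hh : h ∈ H) : h * a * h⁻¹ ∈ A := by
  by_cases hA : h ∈ A
  · exact mul_mem (mul_mem hA ha) (inv_mem hA)
  · rw [D.inverts h hh hA a ha]; exact inv_mem ha

theorem exists_not_mem : ∃ x ∈ H, x ∉ A := by
  by_contra hno
  push Not at hno
  have h := D.two
  rw [relIndex_eq_one.2 hno] at h
  omega

theorem not_commute {y : G} (hy : y ∈ H) (hyA : y ∉ A) : ¬ ∀ a ∈ A, y * a = a * y := by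
  intro h
  obtain ⟨a, ha, ha2⟩ := D.big
  refine ha2 ?_
  have e := D.inverts y hy hyA a ha
  rw [h a ha, mul_inv_cancel_right] at e
  exact mul_eq_one_iff_eq_inv.2 e

theorem le_closure : H ≤ closure {y : G | y * y = 1} := by
  intro h hh
  by_cases hA : h ∈ A
  · obtain ⟨x, hx, hxA⟩ := D.exists_not_mem
    have h1 : h * x ∈ closure {y : G | y * y = 1} :=
      subset_closure (D.sq _ (mul_mem hh hx) fun e => hxA ((mul_mem_cancel_left hA).1 e))
    have hx' : x ∈ closure {y : G | y * y = 1} := subset_closure (D.sq x hx hxA)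
    exact (mul_mem_cancel_right hx').1 h1
  · exact subset_closure (D.sq h hh hA)

theorem isSolvable : Group.IsSolvable H := by
  haveI : (A.subgroupOf H).Normal := normal_of_index_eq_two D.index_subgroupOf
  haveI : Group.IsSolvable (A.subgroupOf H) := Group.isSolvable_of_comm fun a b =>
    Subtype.ext (Subtype.ext (D.comm _ (mem_subgroupOf.1 a.2) _ (mem_subgroupOf.1 b.2)))
  haveI : IsCyclic (H ⧸ A.subgroupOf H) :=
    isCyclic_of_prime_card (p := 2) (by rw [← index_eq_card, D.index_subgroupOf])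
      (hp := ⟨Nat.prime_two⟩)
  haveI : Group.IsSolvable (H ⧸ A.subgroupOf H) :=
    Group.isSolvable_of_comm fun a b => IsCyclic.commGroup.mul_comm a b
  exact Group.isSolvable_of_ker_le_range (A.subgroupOf H).subtype (QuotientGroup.mk' (A.subgroupOf H)) (by simp)

/-- An involution of `H` outside `A` has no conjugate among the involutions of `A`, if `A` has two. -/
theorem not_conj {i k : G} (hi : i ∈ A) (hk : k ∈ A) (hi2 : orderOf i = 2) (hk2 : orderOf k = 2)
    (hik : i ≠ k) {y j g : G} (hy : y ∈ H) (hyA : y ∉ A) (hj : j ∈ A) (hj2 : orderOf j = 2) :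
    g * y * g⁻¹ ≠ j := by
  intro hg
  have hC : ∀ z, z ∈ centralizer ({y} : Set G) ↔ g * z * g⁻¹ ∈ H := by
    intro z
    rw [← D.cen j hj hj2, mem_centralizer_singleton_iff, mem_centralizer_singleton_iff, ← hg]
    constructor
    · intro h
      calc g * z * g⁻¹ * (g * y * g⁻¹) = g * (z * y) * g⁻¹ := by group
        _ = _ := by rw [h]; group
    · intro h
      calc z * y = g⁻¹ * (g * z * g⁻¹ * (g * y * g⁻¹)) * g := by group
        _ = _ := by rw [h]; group
  have hcen : ∀ l ∈ A, orderOf l = 2 → g * l * g⁻¹ ∈ H := fun l hl hl2 => by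
    refine (hC l).1 (mem_centralizer_singleton_iff.2 ?_)
    have e := D.inverts y hy hyA l hl
    rw [inv_eq_of_mul_eq_one_right (CfsgLib.Signalizer.involution_sq hl2)] at e
    exact (mul_inv_eq_iff_eq_mul.1 e).symm
  have hik2 : orderOf (i * k) = 2 := by
    have e1 := CfsgLib.Signalizer.involution_sq hi2
    have e2 := CfsgLib.Signalizer.involution_sq hk2
    refine orderOf_eq_prime ?_ fun e => hik ?_
    · rw [pow_two, show i * k * (i * k) = i * (k * i) * k by group, D.comm k hk i hi,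
        show i * (i * k) * k = (i * i) * (k * k) by group, e1, e2, one_mul]
    · rw [mul_eq_one_iff_eq_inv.1 e, inv_eq_of_mul_eq_one_right e2]
  obtain ⟨l, hlA, hl2, hlA'⟩ : ∃ l ∈ A, orderOf l = 2 ∧ g * l * g⁻¹ ∈ A := by
    by_cases h1 : g * i * g⁻¹ ∈ A
    · exact ⟨i, hi, hi2, h1⟩
    by_cases h2 : g * k * g⁻¹ ∈ A
    · exact ⟨k, hk, hk2, h2⟩
    refine ⟨i * k, mul_mem hi hk, hik2, ?_⟩
    rw [show g * (i * k) * g⁻¹ = g * i * g⁻¹ * (g * k * g⁻¹) by group]
    exact D.mul_mem_of_not_mem (hcen i hi hi2) (hcen k hk hk2) h1 h2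
  have hHC : ∀ z, z ∈ H → z ∈ centralizer ({y} : Set G) := by
    intro z hz
    rw [hC, ← D.cen _ hlA' (by rw [CfsgLib.Signalizer.orderOf_conj, hl2]), mem_centralizer_singleton_iff]
    rw [← D.cen l hlA hl2, mem_centralizer_singleton_iff] at hz
    calc g * z * g⁻¹ * (g * l * g⁻¹) = g * (z * l) * g⁻¹ := by group
      _ = _ := by rw [hz]; group
  exact D.not_commute hy hyA fun a ha =>
    (mem_centralizer_singleton_iff.1 (hHC a (D.le ha))).symm

end DG

end CfsgLib.GW.DGroup
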