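import Cfsg.Agent.Lib.GW.DGroup.Outer
import Cfsg.Agent.Lib.GW.KFactsProof.Shape
import Cfsg.Agent.Lib.GW.Statement
import Cfsg.Agent.Lib.Recog.Zassenhaus.Nonsolvable
import Cfsg.Agent.Lib.OddLocal.Final.OddOrder

/-!
# Groups with dihedral Sylow 2-subgroups, given Gorenstein-Walter

A non-solvable group with trivial core whose 2-subgroups embed in a dihedral group has a normal
`PSL(2, q)` with trivial centraliser, or is `A₇`. If some involution has a centraliser generated by
its involutions and without a commuting pair of an involution and an element of order three, the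
group is `PSL(2, q)` or `PGL(2, q)`.
-/

set_option autoImplicit false

namespace CfsgLib.GW.DGroup

open Subgroup DihedralGroup
open CfsgLib.Known.AutPSL
open CfsgLib.GW.KFactsProof

universe u

/-- Involutions outside a non-cyclic subgroup of index two of a dihedral 2-group are conjugate. -/
theorem model_coset_conj {m : ℕ} (N : Subgroup (DihedralGroup (2 ^ m))) (hN : N.index = 2)
    (hnc : ¬ IsCyclic N) {a b : DihedralGroup (2 ^ m)} (ha : a * a = 1) (hb : b * b = 1)
    (haN : a ∉ N) (hbN : b ∉ N) : IsConj a b := by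
  haveI : NeZero (2 ^ m) := ⟨pow_ne_zero _ two_ne_zero⟩
  have hm : 2 ≤ m := by
    by_contra hm
    have hc := N.card_mul_index
    rw [hN, DihedralGroup.nat_card] at hc
    refine hnc ?_
    have hN2 : Nat.card N = 2 ^ m := by omega
    rcases Nat.lt_or_ge m 1 with h0 | h1
    · replace hN2 : Nat.card N = 1 := hN2.trans (by simp [show m = 0 by omega])
      haveI : Subsingleton N := (Nat.card_eq_one_iff_unique.1 hN2).1
      infer_instance
    · replace hN2 : Nat.card N = 2 := hN2.trans (by simp [show m = 1 by omega])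
      haveI : Fact (Nat.Prime 2) := ⟨Nat.prime_two⟩
      exact isCyclic_of_prime_card (p := 2) hN2
  obtain ⟨i, hi⟩ : ∃ i, sr i ∈ N := by
    by_contra hno
    push Not at hno
    refine hnc (isCyclic_of_le (H' := zpowers (r (1 : ZMod (2 ^ m)))) ?_)
    rintro (t | t) ht
    · exact mem_zpowers_iff.2 ⟨(t.val : ℤ), by rw [zpow_natCast, r_one_pow, ZMod.natCast_zmod_val]⟩
    · exact absurd ht (hno t)
  have hsq : ∀ x : DihedralGroup (2 ^ m), x * x ∈ N := fun x =>
    (mul_mem_iff_of_index_two hN).2 Iff.rfl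
  have hr2 : ∀ s : ZMod (2 ^ m), r (2 * s) ∈ N := fun s => by
    have := hsq (r s)
    rwa [r_mul_r, ← two_mul] at this
  have hpar : ∀ t : ZMod (2 ^ m), ∃ s, t = 2 * s ∨ t = 2 * s + 1 := fun t => by
    refine ⟨((t.val / 2 : ℕ) : ZMod (2 ^ m)), ?_⟩
    rcases Nat.mod_two_eq_zero_or_one t.val with h | h
    · exact Or.inl (by
        conv_lhs => rw [← ZMod.natCast_zmod_val t, ← Nat.div_add_mod t.val 2, h, add_zero, Nat.cast_mul]
        norm_num)
    · exact Or.inr (by
        conv_lhs => rw [← ZMod.natCast_zmod_val t, ← Nat.div_add_mod t.val 2, h, Nat.cast_add, Nat.cast_mul]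
        norm_num)
  have hshape : ∀ x : DihedralGroup (2 ^ m), x * x = 1 → x ∉ N → ∃ s, x = sr (i + (2 * s + 1)) := by
    rintro (t | t) hx hxN
    · exfalso
      obtain ⟨s, rfl | rfl⟩ := hpar t
      · exact hxN (hr2 s)
      · rw [r_mul_r, one_def, r.injEq] at hx
        have h4 : (2 ^ 2 : ℕ) ∣ 2 ^ m := pow_dvd_pow 2 hm
        have h := congrArg (ZMod.castHom h4 (ZMod (2 ^ 2))) hx
        simp only [map_add, map_mul, map_ofNat, map_one, map_zero] at h
        revert h
        generalize (ZMod.castHom h4 (ZMod (2 ^ 2))) s = u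
        revert u
        decide
    · obtain ⟨s, hs | hs⟩ := hpar (t - i)
      · refine absurd ?_ hxN
        have := mul_mem hi (hr2 s)
        rwa [sr_mul_r, ← hs, add_sub_cancel] at this
      · exact ⟨s, by rw [← hs, add_sub_cancel]⟩
  obtain ⟨s, rfl⟩ := hshape a ha haN
  obtain ⟨s', rfl⟩ := hshape b hb hbN
  refine isConj_iff.2 ⟨r (s - s'), ?_⟩
  rw [inv_r, r_mul_sr, sr_mul_r]
  congr 1
  ring

/-- `A₇`: every involution centraliser contains commuting elements of order two and three. -/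
theorem seven_witness {K : Type*} [Group K] (e : K ≃* alternatingGroup (Fin 7)) {j : K}
    (hj : orderOf j = 2) : ∃ y t : K, orderOf y = 2 ∧ orderOf t = 3 ∧ y ≠ j ∧ Commute y j ∧
      Commute t j ∧ Commute y t := by
  classical
  haveI : Fact (Nat.Prime 2) := ⟨Nat.prime_two⟩
  haveI : Fact (Nat.Prime 3) := ⟨Nat.prime_three⟩
  set j₀ : Equiv.Perm (Fin 7) := Equiv.swap 0 1 * Equiv.swap 2 3 with hj₀
  set σ := toPerm e j with hσ
  have hσ2 : orderOf σ = 2 := by rw [hσ, orderOf_injective _ (toPerm_injective e), hj]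
  obtain ⟨n, hn⟩ := Equiv.Perm.cycleType_prime_order (σ := σ) (by rw [hσ2]; exact Nat.prime_two)
  rw [hσ2] at hn
  have hsum := Equiv.Perm.sum_cycleType σ
  rw [hn, Multiset.sum_replicate, smul_eq_mul] at hsum
  have h7 : σ.support.card ≤ 7 := (Finset.card_le_univ _).trans (by rw [Fintype.card_fin])
  have hsg := sign_toPerm e j
  rw [← hσ, Equiv.Perm.sign_of_cycleType, hn, Multiset.sum_replicate, Multiset.card_replicate,
    smul_eq_mul] at hsg
  have hn1 : n = 1 := by
    rcases n with _ | _ | _ | n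
    · exact absurd hsg (by decide)
    · rfl
    · exact absurd hsg (by decide)
    · omega
  have hj₀c : j₀.cycleType = Multiset.replicate (1 + 1) 2 := by rw [hj₀]; decide
  obtain ⟨c, hc⟩ : ∃ c : Equiv.Perm (Fin 7), c * j₀ * c⁻¹ = σ :=
    isConj_iff.1 (Equiv.Perm.isConj_iff_cycleType_eq.2 (by rw [hj₀c, hn, hn1]))
  obtain ⟨k, hk⟩ : ∃ k : K, toPerm e k * j₀ * (toPerm e k)⁻¹ = σ := by
    rcases Int.units_eq_one_or (Equiv.Perm.sign c) with h | h
    · obtain ⟨k, hk⟩ := exists_of_even e h
      exact ⟨k, by rw [hk, hc]⟩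
    · obtain ⟨k, hk⟩ := exists_of_even e (x := c * Equiv.swap (0 : Fin 7) 1) (by
        rw [map_mul, h, Equiv.Perm.sign_swap (by decide)]; decide)
      refine ⟨k, ?_⟩
      rw [hk, ← hc, mul_inv_rev, show c * Equiv.swap (0 : Fin 7) 1 * j₀ *
        ((Equiv.swap (0 : Fin 7) 1)⁻¹ * c⁻¹) =
        c * (Equiv.swap (0 : Fin 7) 1 * j₀ * (Equiv.swap (0 : Fin 7) 1)⁻¹) * c⁻¹ by group]
      congr 2
      rw [hj₀]
      decide
  obtain ⟨j₁, hj₁⟩ := exists_of_even e (x := j₀) (by rw [hj₀]; decide)
  obtain ⟨y, hy⟩ := exists_of_even e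
    (x := Equiv.swap (0 : Fin 7) 2 * Equiv.swap 1 3) (by decide)
  obtain ⟨t, ht⟩ := exists_of_even e
    (x := Equiv.swap (4 : Fin 7) 5 * Equiv.swap 5 6) (by decide)
  have hkj : k * j₁ * k⁻¹ = j := toPerm_injective e (by rw [map_mul, map_mul, map_inv, hj₁, hk])
  have hinj := toPerm_injective e
  have hc1 : Commute y j₁ := hinj (by rw [map_mul, map_mul, hy, hj₁, hj₀]; decide)
  have hc2 : Commute t j₁ := hinj (by rw [map_mul, map_mul, ht, hj₁, hj₀]; decide)
  have hc3 : Commute y t := hinj (by rw [map_mul, map_mul, hy, ht]; decide)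
  have hcong := fun {a b : K} (h : Commute a b) => h.map (MulAut.conj k).toMonoidHom
  refine ⟨k * y * k⁻¹, k * t * k⁻¹, ?_, ?_, ?_, hkj ▸ hcong hc1, hkj ▸ hcong hc2, hcong hc3⟩
  · rw [CfsgLib.Signalizer.orderOf_conj, ← orderOf_injective _ hinj, hy]
    exact orderOf_eq_prime (by decide) (by decide)
  · rw [CfsgLib.Signalizer.orderOf_conj, ← orderOf_injective _ hinj, ht]
    exact orderOf_eq_prime (by decide) (by decide)
  · rw [← hkj]
    intro h
    have := mul_left_cancel (mul_right_cancel h)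
    rw [this, hj₁, hj₀] at hy
    exact absurd hy (by decide)

/-- The 2-subgroups of the quotient by the core embed in a dihedral Sylow 2-subgroup. -/
theorem ambient_of_sylow {X : Type*} [Group X] [Finite X] (S : Sylow 2 X) {n : ℕ} (hn : 1 ≤ n)
    (e : (S : Subgroup X) ≃* DihedralGroup (2 ^ n)) : Ambient n (X ⧸ Cfsg.oddCore X) := by
  haveI : Fact (Nat.Prime 2) := ⟨Nat.prime_two⟩
  refine ⟨hn, CfsgLib.Core.pPrimeCore_quotient_pPrimeCore 2 X, fun Q hQ => ?_⟩
  let π := QuotientGroup.mk' (Cfsg.oddCore X)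
  let S' := S.mapSurjective (QuotientGroup.mk'_surjective (Cfsg.oddCore X))
  obtain ⟨R, hR⟩ := hQ.exists_le_sylow
  let ψ : (S : Subgroup X) →* (S' : Subgroup (X ⧸ Cfsg.oddCore X)) :=
    (π.comp (S : Subgroup X).subtype).codRestrict _ fun p => mem_map_of_mem _ p.2
  have hψ : Function.Bijective ψ := by
    refine ⟨(injective_iff_map_eq_one _).2 fun p hp => ?_, ?_⟩
    · have h1 : (p : X) ∈ Cfsg.oddCore X := (QuotientGroup.eq_one_iff _).1 (congrArg Subtype.val hp)
      refine Subtype.ext (Subgroup.disjoint_def.1 (disjoint_iff.2 ?_) p.2 h1)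
      exact inf_eq_bot_of_coprime ((IsPGroup.iff_card.1 S.2).choose_spec ▸
        ((CfsgLib.Core.coprime_card_pPrimeCore 2 X).symm.pow_left _))
    · rintro ⟨_, a, ha, rfl⟩
      exact ⟨⟨a, ha⟩, rfl⟩
  let f : Q →* DihedralGroup (2 ^ n) := e.toMonoidHom.comp ((MulEquiv.ofBijective ψ hψ).symm.toMonoidHom.comp
    ((Sylow.equiv R S').toMonoidHom.comp (inclusion hR)))
  exact ⟨f, e.injective.comp ((MulEquiv.ofBijective ψ hψ).symm.injective.comp
    ((Sylow.equiv R S').injective.comp (inclusion_injective hR)))⟩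

variable {K : Type u} [Group K] [Finite K] {n : ℕ}

/-- A non-solvable group with trivial core and dihedral 2-subgroups. -/
theorem shape_of_gw (gw : CfsgLib.GW.GWStatement.{u}) (A : Ambient n K) (hns : ¬ Group.IsSolvable K) :
    (∃ (F : Type) (_ : Field F) (_ : Fintype F) (L : Subgroup K) (_ : L.Normal) (e : L ≃* PSL 2 F),
        IsLin L e) ∨ Nonempty (K ≃* alternatingGroup (Fin 7)) := by
  classical
  haveI : Fact (Nat.Prime 2) := ⟨Nat.prime_two⟩
  obtain ⟨Y, hYn, -, hYne, hYp⟩ := CfsgLib.Recog.Zassenhaus.exists_perfect_normal hns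
  haveI : Group.IsPerfect Y := ⟨hYp⟩
  have hYeven : Even (Nat.card Y) := by
    by_contra h
    haveI := CfsgLib.OddLocal.FTFinal.odd_order_solvable (Nat.not_even_iff_odd.1 h)
    haveI : Nontrivial Y := (nontrivial_iff_ne_bot Y).2 hYne
    exact (Group.IsSolvable.commutator_lt_top_of_nontrivial Y).ne hYp
  obtain ⟨P⟩ : Nonempty (Sylow 2 Y) := inferInstance
  have hPnc : ¬ IsCyclic (P : Subgroup Y) := fun hc => by
    have h2 : (Nat.card Y).minFac = 2 := (Nat.minFac_eq_two_iff _).2 (even_iff_two_dvd.1 hYeven)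
    have hcompl := hc.isComplement' h2
    set τ := MonoidHom.transferSylow P (hc.normalizer_le_centralizer h2)
    haveI := hc
    letI := IsCyclic.commGroup (α := (P : Subgroup Y))
    have hker : τ.ker = ⊤ := top_le_iff.1 (Group.IsPerfect.commutator_eq_top (G := Y) ▸
      Abelianization.commutator_subset_ker τ)
    rw [hker, Subgroup.isComplement'_top_left] at hcompl
    refine P.not_dvd_index ?_
    rw [hcompl, index_bot]
    exact even_iff_two_dvd.1 hYeven
  obtain ⟨φ, hφ⟩ := A.emb ((P : Subgroup Y).map Y.subtype) (P.2.map _)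
  let ι := (P : Subgroup Y).equivMapOfInjective Y.subtype Y.subtype_injective
  let d : (P : Subgroup Y) →* DihedralGroup (2 ^ n) := φ.comp ι.toMonoidHom
  have hd : Function.Injective d := hφ.comp ι.injective
  obtain ⟨j, hj, ⟨eD⟩⟩ := exists_dihedral_of_not_cyclic A.pos d.range
    (fun h => hPnc ((MonoidHom.ofInjective hd).isCyclic.2 h))
  have hknown := gw Y P (2 ^ j) (Nat.le_self_pow (by omega) 2) ⟨(MonoidHom.ofInjective hd).trans eD⟩
  have hO : Cfsg.oddCore Y = ⊥ := by
    have h := CfsgLib.Core.map_subtype_pPrimeCore_le (p := 2) Y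
    rw [show Cfsg.pPrimeCore 2 K = ⊥ from A.core, le_bot_iff,
      map_eq_bot_iff_of_injective _ Y.subtype_injective] at h
    exact h
  let e0 : Y ≃* Y ⧸ Cfsg.oddCore Y :=
    QuotientGroup.quotientBot.symm.trans (QuotientGroup.quotientMulEquivOfEq hO.symm)
  rcases hknown with ⟨F, hF1, hF2, hodd, h3, ⟨eF⟩⟩ | ⟨⟨e7⟩⟩
  · haveI := CfsgLib.Classical.isSimpleGroup_PSL_two (F := F) (show 4 ≤ Fintype.card F by omega)
    let e := e0.trans eF
    haveI : IsSimpleGroup Y :=
      haveI : Nontrivial Y := (nontrivial_iff_ne_bot Y).2 hYne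
      IsSimpleGroup.isSimpleGroup_of_surjective e.symm.toMonoidHom e.symm.surjective
    obtain ⟨v, w, hvw⟩ := exists_four (F := F) (two_ne_zero_of_odd' hodd)
    exact Or.inl ⟨F, hF1, hF2, Y, hYn, e, A.centralizer_eq_bot _
      (hvw.map e.symm.toMonoidHom e.symm.injective), hodd, by omega⟩
  · haveI := alternatingGroup.isSimpleGroup (α := Fin 7) (by simp)
    let e := e0.trans e7
    haveI : IsSimpleGroup Y :=
      haveI : Nontrivial Y := (nontrivial_iff_ne_bot Y).2 hYne
      IsSimpleGroup.isSimpleGroup_of_surjective e.symm.toMonoidHom e.symm.surjective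
    obtain ⟨v, w, hvw⟩ := even_four e
    have htop := A.seven_top Y e (A.centralizer_eq_bot _ hvw)
    exact Or.inr ⟨(topEquiv.symm.trans (MulEquiv.subgroupCongr htop.symm)).trans e⟩

section Linear

variable {F : Type} [Field F] [Fintype F] {L : Subgroup K} [L.Normal] {e : L ≃* PSL 2 F}

/-- A Sylow 2-subgroup of the simple part is not cyclic. -/
theorem not_isCyclic_sylow (hK : IsLin L e) (T : Sylow 2 L) : ¬ IsCyclic (T : Subgroup L) := by
  classical
  haveI : Fact (Nat.Prime 2) := ⟨Nat.prime_two⟩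
  obtain ⟨v, w, hvw⟩ := exists_four (F := F) (two_ne_zero_of_odd' hK.odd)
  have h := hvw.map e.symm.toMonoidHom e.symm.injective
  set a := e.symm.toMonoidHom v
  set b := e.symm.toMonoidHom w
  have ha : a * a = 1 := CfsgLib.Signalizer.involution_sq h.hv
  have hb : b * b = 1 := CfsgLib.Signalizer.involution_sq h.hw
  have hV : IsPGroup 2 (closure ({a, b, 1} : Set L)) :=
    isPGroup_closure_involutions ha hb (one_mul 1) h.comm (Commute.one_right a) (Commute.one_right b)
  obtain ⟨R, hR⟩ := hV.exists_le_sylow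
  intro hc
  haveI := (R.equiv T).isCyclic.2 hc
  have ha' : a ∈ (R : Subgroup L) := hR (subset_closure (by simp))
  have hb' : b ∈ (R : Subgroup L) := hR (subset_closure (by simp))
  letI := Fintype.ofFinite (R : Subgroup L)
  have hcard := IsCyclic.card_pow_eq_one_le (α := (R : Subgroup L)) (n := 2) two_pos
  have h3 : ({⟨1, one_mem _⟩, ⟨a, ha'⟩, ⟨b, hb'⟩} : Finset (R : Subgroup L)).card = 3 := by
    refine Finset.card_eq_three.2 ⟨_, _, _, ?_, ?_, ?_, rfl⟩
    · exact fun h' => CfsgLib.Signalizer.involution_ne_one h.hv (congrArg Subtype.val h').symm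
    · exact fun h' => CfsgLib.Signalizer.involution_ne_one h.hw (congrArg Subtype.val h').symm
    · exact fun h' => h.ne (congrArg Subtype.val h')
  refine absurd (h3 ▸ (Finset.card_le_card fun x hx => ?_).trans hcard) (by norm_num)
  rw [Finset.mem_filter]
  refine ⟨Finset.mem_univ _, Subtype.ext ?_⟩
  simp only [Finset.mem_insert, Finset.mem_singleton] at hx
  rcases hx with rfl | rfl | rfl <;> simp [pow_two, ha, hb]

/-- All involutions of the simple part are conjugate in it. -/
theorem isConj_involutions (A : Ambient n K) (hK : IsLin L e) {a b : L} (ha : orderOf a = 2)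
    (hb : orderOf b = 2) : IsConj a b := by
  haveI : Fact (Nat.Prime 2) := ⟨Nat.prime_two⟩
  haveI := CfsgLib.Classical.isSimpleGroup_PSL_two (F := F) hK.four_le
  haveI : Nontrivial L := e.toEquiv.nontrivial
  haveI : IsSimpleGroup L := IsSimpleGroup.isSimpleGroup_of_surjective e.symm.toMonoidHom e.symm.surjective
  obtain ⟨T⟩ : Nonempty (Sylow 2 L) := inferInstance
  obtain ⟨φ, hφ⟩ := A.emb ((T : Subgroup L).map L.subtype) (T.2.map _)
  let ι := (T : Subgroup L).equivMapOfInjective L.subtype L.subtype_injective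
  let d : (T : Subgroup L) →* DihedralGroup (2 ^ n) := φ.comp ι.toMonoidHom
  have hd : Function.Injective d := hφ.comp ι.injective
  have hnc := not_isCyclic_sylow hK T
  obtain ⟨m, hm, ⟨eD⟩⟩ := exists_dihedral_of_not_cyclic A.pos d.range
    (fun h => hnc ((MonoidHom.ofInjective hd).isCyclic.2 h))
  let eT := (MonoidHom.ofInjective hd).trans eD
  refine CfsgLib.TwoGroups.Dihedral.all_conj_of_no_index_two
    (f := (T : Subgroup L).subtype.comp eT.symm.toMonoidHom) (S := T)
    ((T : Subgroup L).subtype_injective.comp eT.symm.injective)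
    (by rw [MonoidHom.range_comp, MonoidHom.range_eq_top.2 eT.symm.surjective, ← MonoidHom.range_eq_map,
      Subgroup.range_subtype]) hm (fun H hH => ?_) a b ha hb
  haveI : H.Normal := Subgroup.normal_of_index_eq_two hH
  rcases Normal.eq_bot_or_eq_top (inferInstance : H.Normal) with h | h
  · rw [h, index_bot] at hH
    haveI := isCyclic_of_prime_card (p := 2) hH
    exact hnc inferInstance
  · rw [h, index_top] at hH; omega

/-- Involutions congruent modulo the simple part are conjugate under it. -/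
theorem exists_conj_coset (A : Ambient n K) (hK : IsLin L e) {a b : K} (ha : orderOf a = 2)
    (hb : orderOf b = 2) (hab : b * a ∈ L) : ∃ l ∈ L, l * a * l⁻¹ = b := by
  haveI : Fact (Nat.Prime 2) := ⟨Nat.prime_two⟩
  have ha1 := CfsgLib.Signalizer.involution_sq ha
  have hb1 := CfsgLib.Signalizer.involution_sq hb
  by_cases haL : a ∈ L
  · have hbL : b ∈ L := by
      have := mul_mem hab haL
      rwa [mul_assoc, ha1, mul_one] at this
    obtain ⟨c, hc⟩ := isConj_iff.1 (isConj_involutions A hK (a := ⟨a, haL⟩) (b := ⟨b, hbL⟩)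
      (by rw [orderOf_mk, ha]) (by rw [orderOf_mk, hb]))
    exact ⟨c, c.2, congrArg Subtype.val hc⟩
  set R := L ⊔ zpowers a with hR
  have hdec : ∀ x ∈ R, x ∈ L ∨ x * a ∈ L := by
    intro x hx
    rw [← SetLike.mem_coe, hR, normal_mul] at hx
    obtain ⟨l, hl, i, hi, rfl⟩ := hx
    obtain ⟨k, rfl⟩ := mem_zpowers_iff.1 hi
    rw [← zpow_mod_orderOf, ha]
    rcases Int.emod_two_eq k with h | h
    · left; simpa [h] using hl
    · right; simpa [h, mul_assoc, ha1] using hl
  have haR : a ∈ R := mem_sup_right (mem_zpowers a)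
  have hbR : b ∈ R := by
    have := mul_mem (mem_sup_left (T := zpowers a) hab) haR
    rwa [mul_assoc, ha1, mul_one] at this
  have hp2 : ∀ x : R, orderOf x = 2 → IsPGroup 2 (zpowers x) := fun x hx =>
    IsPGroup.of_card (n := 1) (by rw [Nat.card_zpowers, hx, pow_one])
  obtain ⟨P, hP⟩ := (hp2 ⟨a, haR⟩ (by rw [orderOf_mk, ha])).exists_le_sylow
  obtain ⟨P', hP'⟩ := (hp2 ⟨b, hbR⟩ (by rw [orderOf_mk, hb])).exists_le_sylow
  obtain ⟨⟨x, hxR⟩, hx⟩ := MulAction.exists_smul_eq R P P'
  have haP : (⟨a, haR⟩ : R) ∈ (P : Subgroup R) := hP (mem_zpowers _)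
  obtain ⟨l, hl, hlP⟩ : ∃ (l : K) (_ : l ∈ L), ∃ w : R, w ∈ (P : Subgroup R) ∧ l * w * l⁻¹ = b := by
    have hb' : (⟨b, hbR⟩ : R) ∈ (P' : Subgroup R) := hP' (mem_zpowers _)
    rw [← hx, Sylow.coe_subgroup_smul, Subgroup.mem_pointwise_smul_iff_inv_smul_mem] at hb'
    simp only [MulAut.smul_def, MulAut.inv_apply, MulAut.conj_symm_apply] at hb'
    rcases hdec x hxR with h | h
    · exact ⟨x, h, _, hb', by
        show x * (x⁻¹ * b * x) * x⁻¹ = b
        group⟩
    · refine ⟨x * a, h, _, mul_mem (mul_mem haP hb') (inv_mem haP), ?_⟩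
      show x * a * (a * (x⁻¹ * b * x) * a⁻¹) * (x * a)⁻¹ = b
      rw [inv_eq_of_mul_eq_one_right ha1, show x * a * (a * (x⁻¹ * b * x) * a) * (x * a)⁻¹ =
        x * (a * a) * (x⁻¹ * b * x) * x⁻¹ by group, ha1]
      group
  obtain ⟨w, hwP, hw⟩ := hlP
  let T : Subgroup (P : Subgroup R) := (L.subgroupOf R).subgroupOf (P : Subgroup R)
  have hTmem : ∀ q : (P : Subgroup R), q ∈ T ↔ ((q : R) : K) ∈ L := fun q => by
    simp only [T, mem_subgroupOf]
  have hTi : T.index = 2 := by
    refine index_eq_two_iff.2 ⟨⟨⟨a, haR⟩, haP⟩, fun q => ?_⟩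
    rw [hTmem, hTmem]
    show Xor ((q : R) * a ∈ L) (((q : R) : K) ∈ L)
    rcases hdec _ (q : R).2 with h | h
    · exact Or.inr ⟨h, fun h' => haL ((mul_mem_cancel_left h).1 h')⟩
    · exact Or.inl ⟨h, fun h' => haL ((mul_mem_cancel_left h').1 h)⟩
  have hTnc : ¬ IsCyclic T := by
    intro hc
    obtain ⟨T₀⟩ : Nonempty (Sylow 2 L) := inferInstance
    let ι₀ : L →* R := inclusion le_sup_left
    obtain ⟨P'', hP''⟩ := (T₀.2.map ι₀).exists_le_sylow
    obtain ⟨y, hy⟩ := MulAction.exists_smul_eq R P'' P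
    let c : (T₀ : Subgroup L) →* R :=
      (MulAut.conj y).toMonoidHom.comp (ι₀.comp (T₀ : Subgroup L).subtype)
    have hcP : ∀ q, c q ∈ (P : Subgroup R) := fun q => by
      rw [← hy, Sylow.coe_subgroup_smul]
      exact Subgroup.smul_mem_pointwise_smul _ _ _ (hP'' ⟨_, q.2, rfl⟩)
    let f : (T₀ : Subgroup L) →* T := (c.codRestrict _ hcP).codRestrict T fun q => by
      rw [hTmem]
      exact (inferInstance : L.Normal).conj_mem _ ((q : L)).2 (y : K)
    refine not_isCyclic_sylow hK T₀ (isCyclic_of_injective f fun p q h => ?_)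
    have h' : c p = c q := congrArg (fun z : T => ((z : (P : Subgroup R)) : R)) h
    exact Subtype.ext (inclusion_injective le_sup_left ((MulAut.conj y).injective h'))
  obtain ⟨φ, hφ⟩ := A.emb ((P : Subgroup R).map R.subtype) (P.2.map _)
  let ι := (P : Subgroup R).equivMapOfInjective R.subtype R.subtype_injective
  let d : (P : Subgroup R) →* DihedralGroup (2 ^ n) := φ.comp ι.toMonoidHom
  have hd : Function.Injective d := hφ.comp ι.injective
  have hPnc : ¬ IsCyclic (P : Subgroup R) := fun h => hTnc inferInstance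
  obtain ⟨m, hm, ⟨eD⟩⟩ := exists_dihedral_of_not_cyclic A.pos d.range
    (fun h => hPnc ((MonoidHom.ofInjective hd).isCyclic.2 h))
  let eP := (MonoidHom.ofInjective hd).trans eD
  have hwb : (w : K) * (w : K) = 1 := by
    rw [show (w : K) = l⁻¹ * b * l by rw [← hw]; group,
      show l⁻¹ * b * l * (l⁻¹ * b * l) = l⁻¹ * (b * b) * l by group, hb1]
    group
  have hwL : (w : K) ∉ L := fun h => haL (by
    have hbL : b ∈ L := hw ▸ mul_mem (mul_mem hl h) (inv_mem hl)
    exact (mul_mem_cancel_left hbL).1 hab)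
  have hmap : ∀ q : (P : Subgroup R), eP q ∈ T.map eP.toMonoidHom ↔ q ∈ T := fun q =>
    mem_map_iff_mem eP.injective
  have hconj := model_coset_conj (T.map eP.toMonoidHom)
    ((index_map_equiv T eP).trans hTi)
    (fun h => hTnc ((T.equivMapOfInjective eP.toMonoidHom eP.injective).isCyclic.2 h))
    (a := eP ⟨⟨a, haR⟩, haP⟩) (b := eP ⟨w, hwP⟩)
    (by rw [← map_mul, ← map_one eP]; exact congrArg eP (Subtype.ext (Subtype.ext ha1)))
    (by rw [← map_mul, ← map_one eP]; exact congrArg eP (Subtype.ext (Subtype.ext hwb)))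
    (by rw [hmap, hTmem]; exact haL) (by rw [hmap, hTmem]; exact hwL)
  obtain ⟨c, hc⟩ := isConj_iff.1 hconj
  obtain ⟨q, rfl⟩ := eP.surjective c
  rw [← map_inv, ← map_mul, ← map_mul, eP.injective.eq_iff] at hc
  have hc' : ((q : R) : K) * a * ((q : R) : K)⁻¹ = w :=
    congrArg (fun z : (P : Subgroup R) => ((z : R) : K)) hc
  rcases hdec _ (q : R).2 with h | h
  · exact ⟨l * q, mul_mem hl h, by rw [← hw, ← hc']; group⟩
  · refine ⟨l * (q * a), mul_mem hl h, ?_⟩
    rw [← hw, ← hc']
    calc l * ((q : R) * a) * a * (l * ((q : R) * a))⁻¹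
        = l * ((q : R) * (a * a) * a⁻¹) * ((q : R) : K)⁻¹ * l⁻¹ := by group
      _ = _ := by rw [ha1, inv_eq_of_mul_eq_one_right ha1]; group

/-- The linear case: the centraliser of an involution generated by involutions. -/
theorem linear_case (A : Ambient n K) (hK : IsLin L e) {j : K} (hj : orderOf j = 2)
    (hgen : centralizer ({j} : Set K) ≤ closure {y : K | y * y = 1}) :
    Nonempty (K ≃* PSL 2 F) ∨ Nonempty (K ≃* Matrix.ProjGenLinGroup (Fin 2) F) := by
  set θ := fld.comp (toAut L e)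
  have hC : centralizer ({j} : Set K) ≤ θ.ker := hgen.trans ((closure_le _).2 fun y hy =>
    MonoidHom.mem_ker.2 (A.fld_eq_one_of_sq hK hy))
  have hall : ∀ k : K, fld (toAut L e k) = 1 := by
    intro k
    have hker : ∀ l ∈ L, θ l = 1 := fun l hl => by
      show fld (toAut L e ((⟨l, hl⟩ : L) : K)) = 1
      rw [toAut_of_mem, fld_conj]
    obtain ⟨l, hl, hlj⟩ := exists_conj_coset A hK hj (b := k * j * k⁻¹)
      (by rw [CfsgLib.Signalizer.orderOf_conj, hj]) (mem_of_inn hK (by
        have := commutator_mem_inn (toAut L e k) (toAut L e j)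
        rwa [← map_inv, ← map_inv, ← map_mul, ← map_mul, ← map_mul,
          inv_eq_of_mul_eq_one_right (CfsgLib.Signalizer.involution_sq hj)] at this))
    have hm : l⁻¹ * k ∈ centralizer ({j} : Set K) := by
      rw [mem_centralizer_singleton_iff]
      calc l⁻¹ * k * j = l⁻¹ * (k * j * k⁻¹) * k := by group
        _ = l⁻¹ * (l * j * l⁻¹) * k := by rw [hlj]
        _ = j * (l⁻¹ * k) := by group
    have h := MonoidHom.mem_ker.1 (hC hm)
    rwa [map_mul, map_inv, hker l hl, inv_one, one_mul] at h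
  by_cases hLt : L = ⊤
  · exact Or.inl ⟨(topEquiv.symm.trans (MulEquiv.subgroupCongr hLt.symm)).trans e⟩
  obtain ⟨k, hk⟩ : ∃ k, k ∉ L := by
    by_contra hno
    push Not at hno
    exact hLt (eq_top_iff.2 fun x _ => hno x)
  refine Or.inr ?_
  have hrange : (toAut L e).range = (innDiag 2 F).range := by
    refine le_antisymm ?_ ?_
    · rintro _ ⟨x, rfl⟩
      obtain ⟨g, hg⟩ := exists_innDiag (hall x)
      exact ⟨g, hg.symm⟩
    · refine range_innDiag_le (two_ne_zero_of_odd' hK.odd) ?_ ⟨k, rfl⟩ (hall k)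
        fun h => hk (mem_of_inn hK h)
      rintro _ ⟨z, rfl⟩
      obtain ⟨y, rfl⟩ := e.surjective z
      exact ⟨y, toAut_of_mem L e y⟩
  obtain ⟨ε⟩ := range_innDiag_equiv (F := F)
  exact ⟨((MonoidHom.ofInjective (toAut_injective hK)).trans (MulEquiv.subgroupCongr hrange)).trans ε⟩

/-- With dihedral Sylow subgroups of order at least eight no centraliser has order at most four. -/
theorem linear_large (A : Ambient n K) (hK : IsLin L e) (S : Sylow 2 K)
    (hS : 8 ≤ Nat.card (S : Subgroup K)) {j : K} (hj : orderOf j = 2) :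
    4 < Nat.card (centralizer ({j} : Set K)) := by
  haveI : Fact (Nat.Prime 2) := ⟨Nat.prime_two⟩
  by_cases hjL : j ∈ L
  · set T := L.subgroupOf (S : Subgroup K)
    have hT : T ≠ ⊥ := by
      intro hT
      obtain ⟨R, hR⟩ := (IsPGroup.of_card (n := 1) (G := zpowers j)
        (by rw [Nat.card_zpowers, hj, pow_one])).exists_le_sylow
      obtain ⟨g, rfl⟩ := MulAction.exists_smul_eq K R S
      have hmem : (MulAut.conj g) j ∈ ((g • R : Sylow 2 K) : Subgroup K) := by
        rw [Sylow.coe_subgroup_smul]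
        exact Subgroup.smul_mem_pointwise_smul j _ _ (hR (mem_zpowers j))
      have := (Subgroup.eq_bot_iff_forall _).1 hT ⟨_, hmem⟩
        (mem_subgroupOf.2 ((inferInstance : L.Normal).conj_mem j hjL g))
      have h1 : g * j * g⁻¹ = 1 := congrArg Subtype.val this
      exact CfsgLib.Signalizer.involution_ne_one hj (conj_eq_one_iff.1 h1)
    obtain ⟨z, ⟨hzT, hzZ⟩, hz1⟩ := (bot_or_exists_ne_one (T ⊓ center (S : Subgroup K))).resolve_left
      ((haveI := S.2.isNilpotent; CfsgLib.Core.inf_center_ne_bot_of_isNilpotent T hT))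
    obtain ⟨k, hk⟩ : ∃ k : ℕ, orderOf (z ^ k) = 2 := by
      obtain ⟨i, hi⟩ := IsPGroup.iff_orderOf.1 S.2 z
      have hi0 : i ≠ 0 := fun h0 => hz1 (orderOf_eq_one_iff.1 (by rw [hi, h0, pow_zero]))
      obtain ⟨i, rfl⟩ := Nat.exists_eq_succ_of_ne_zero hi0
      refine ⟨2 ^ i, ?_⟩
      rw [orderOf_pow_of_dvd (by positivity) (by rw [hi]; exact pow_dvd_pow 2 (Nat.le_succ i)), hi,
        pow_succ', Nat.mul_div_cancel _ (by positivity)]
    set u : K := ((z ^ k : (S : Subgroup K)) : K) with hu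
    have huL : u ∈ L := mem_subgroupOf.1 (pow_mem hzT k)
    obtain ⟨c, hc⟩ := isConj_iff.1 (isConj_involutions A hK (a := ⟨u, huL⟩) (b := ⟨j, hjL⟩)
      (by rw [orderOf_mk, hu, orderOf_coe, hk]) (by rw [orderOf_mk, hj]))
    have hc' : (c : K) * u * (c : K)⁻¹ = j := congrArg Subtype.val hc
    have hle : (S : Subgroup K).map (MulAut.conj (c : K)).toMonoidHom ≤ centralizer ({j} : Set K) := by
      rintro _ ⟨s, hs, rfl⟩
      rw [mem_centralizer_singleton_iff, ← hc']
      have hcomm : s * u = u * s :=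
        congrArg Subtype.val (mem_center_iff.1 (pow_mem hzZ k) ⟨s, hs⟩)
      show (c : K) * s * (c : K)⁻¹ * (c * u * (c : K)⁻¹) = c * u * (c : K)⁻¹ * (c * s * (c : K)⁻¹)
      calc (c : K) * s * (c : K)⁻¹ * (c * u * (c : K)⁻¹) = c * (s * u) * (c : K)⁻¹ := by group
        _ = _ := by rw [hcomm]; group
    have := card_le_of_le hle
    rw [card_map_of_injective (MulAut.conj (c : K)).injective] at this
    omega
  · have h1 := CfsgLib.Signalizer.involution_sq hj
    obtain ⟨y', hy, hy2⟩ := exists_fixed_sq_ne (two_ne_zero_of_odd' hK.odd) hK.four_le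
      (α := toAut L e j) (by rw [← map_mul, h1, map_one]) (A.fld_eq_one_of_sq hK h1)
      fun h => hjL (mem_of_inn hK h)
    obtain ⟨y, rfl⟩ := e.surjective y'
    rw [toAut_apply, e.injective.eq_iff, Subtype.ext_iff] at hy
    have hcomm : Commute (y : K) j := (mul_inv_eq_iff_eq_mul.1 hy).symm
    have hyC : zpowers (y : K) ≤ centralizer ({j} : Set K) :=
      zpowers_le.2 (mem_centralizer_singleton_iff.2 hcomm.eq)
    have h3 : 3 ≤ orderOf (y : K) := by
      have hpos := orderOf_pos (y : K)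
      by_contra hlt
      apply hy2
      rw [← map_mul, ← map_one e]
      refine congrArg e (Subtype.ext ?_)
      have hp := pow_orderOf_eq_one (y : K)
      interval_cases h : orderOf (y : K)
      · rw [pow_one] at hp; simp [hp]
      · rw [pow_two] at hp; exact hp
    have hjC : j ∈ centralizer ({j} : Set K) := mem_centralizer_singleton_iff.2 rfl
    have hidx : 2 ≤ ((zpowers (y : K)).subgroupOf (centralizer ({j} : Set K))).index := by
      refine Nat.one_lt_iff_ne_zero_and_ne_one.2 ⟨Subgroup.index_ne_zero_of_finite, fun h => hjL ?_⟩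
      rw [index_eq_one] at h
      have := mem_subgroupOf.1 (h ▸ mem_top (⟨j, hjC⟩ : centralizer ({j} : Set K)))
      exact (zpowers_le.2 y.2) this
    have hmul := ((zpowers (y : K)).subgroupOf (centralizer ({j} : Set K))).card_mul_index
    rw [Nat.card_congr (subgroupOfEquivOfLe hyC).toEquiv, Nat.card_zpowers] at hmul
    have := Nat.mul_le_mul h3 hidx
    omega

end Linear

/-- The involution has a centraliser generated by involutions. -/
theorem conclusion (gw : CfsgLib.GW.GWStatement.{u}) (A : Ambient n K) (hns : ¬ Group.IsSolvable K)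
    {j : K} (hj : orderOf j = 2) (hgen : centralizer ({j} : Set K) ≤ closure {y : K | y * y = 1})
    (hno : ∀ y t : K, orderOf y = 2 → orderOf t = 3 → y ≠ j → Commute y j → Commute t j →
      Commute y t → False) :
    ∃ (F : Type) (_ : Field F) (_ : Fintype F), 3 < Fintype.card F ∧
      (Nonempty (K ≃* PSL 2 F) ∨ Nonempty (K ≃* Matrix.ProjGenLinGroup (Fin 2) F)) := by
  rcases shape_of_gw gw A hns with ⟨F, iF, iF', L, hL, e, hK⟩ | ⟨⟨e⟩⟩
  · exact ⟨F, iF, iF', hK.four_le, linear_case A hK hj hgen⟩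
  · obtain ⟨y, t, hy, ht, hne, h1, h2, h3⟩ := seven_witness e hj
    exact (hno y t hy ht hne h1 h2 h3).elim

/-- No involution has a centraliser of order at most four when the Sylow subgroups are larger. -/
theorem four_lt_centralizer (gw : CfsgLib.GW.GWStatement.{u}) (A : Ambient n K)
    (hns : ¬ Group.IsSolvable K) (S : Sylow 2 K) (hS : 8 ≤ Nat.card (S : Subgroup K)) {j : K}
    (hj : orderOf j = 2) : 4 < Nat.card (centralizer ({j} : Set K)) := by
  rcases shape_of_gw gw A hns with ⟨F, iF, iF', L, hL, e, hK⟩ | ⟨⟨e⟩⟩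
  · exact linear_large A hK S hS hj
  · obtain ⟨y, t, hy, ht, -, h1, h2, h3⟩ := seven_witness e hj
    have hyt : orderOf (y * t) = 6 := by
      rw [h3.orderOf_mul_eq_mul_orderOf_of_coprime (by rw [hy, ht]; norm_num), hy, ht]
    have hle : zpowers (y * t) ≤ centralizer ({j} : Set K) :=
      zpowers_le.2 (mem_centralizer_singleton_iff.2 (h1.mul_left h2).eq)
    have := card_le_of_le hle
    rw [Nat.card_zpowers, hyt] at this
    omega

end CfsgLib.GW.DGroup
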