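import Cfsg.Agent.Lib.GW.DGroup.Basic
import Cfsg.Agent.Lib.TwoGroups.ElemCentralizers
import Cfsg.Agent.Lib.Classical.PSLTwoSimple
import Cfsg.Agent.Lib.Recog.PrimeGraph
import Cfsg.Agent.Lib.Known.GLFourTwoFacts
import Cfsg.Agent.Lib.Classical.SL2Pair
import Cfsg.Agent.Lib.Core.Nilpotent
import Cfsg.Agent.S2202

/-!
# The cases where the centraliser has two central involutions in `A`, or is elementary abelian

The quotient is then `SL(2, 2ⁿ)`, by the classification of groups with abelian involution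
centralisers.
-/

set_option autoImplicit false

namespace CfsgLib.GW.DGroup

open Subgroup MulAction CfsgLib.TwoGroups
open scoped MatrixGroups

universe u

section SL

variable {F : Type} [Field F] [CharP F 2]

theorem sq_eq_one_of_commute {t c : SL(2, F)} (ht : t * t = 1) (ht1 : t ≠ 1) (h : c * t = t * c) :
    c * c = 1 := by
  have h2 : (2 : F) = 0 := CharTwo.two_eq_zero
  obtain ⟨t, dt⟩ := t
  obtain ⟨c, dc⟩ := c
  have hq : t * t = 1 := congrArg Subtype.val ht
  have hh : c * t = t * c := congrArg Subtype.val h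
  have t00 := congrFun₂ hq 0 0
  have t01 := congrFun₂ hq 0 1
  have t10 := congrFun₂ hq 1 0
  have t11 := congrFun₂ hq 1 1
  simp [Matrix.mul_apply, Fin.sum_univ_two] at t00 t01 t10 t11
  have htr : t 0 0 = t 1 1 := by
    have h0 : (t 0 0 - t 1 1) * (t 0 0 - t 1 1) = 0 := by
      linear_combination t00 - t11 - (t 0 0 - t 1 1) * t 1 1 * h2
    exact sub_eq_zero.1 (mul_self_eq_zero.1 h0)
  have hoff : t 0 1 ≠ 0 ∨ t 1 0 ≠ 0 := by
    by_contra hno
    push Not at hno
    refine ht1 (Subtype.ext ?_)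
    have h0 : (t 0 0 - 1) * (t 0 0 - 1) = 0 := by
      linear_combination t00 - t 0 1 * hno.2 - (t 0 0 - 1) * h2
    have h1 : t 0 0 = 1 := sub_eq_zero.1 (mul_self_eq_zero.1 h0)
    have h1' : t 1 1 = 1 := htr.symm.trans h1
    ext i k
    fin_cases i <;> fin_cases k <;> simp [hno.1, hno.2, h1, h1']
  have e00 := congrFun₂ hh 0 0
  have e01 := congrFun₂ hh 0 1
  have e10 := congrFun₂ hh 1 0
  simp [Matrix.mul_apply, Fin.sum_univ_two] at e00 e01 e10
  have hc : c 0 0 = c 1 1 := by
    rcases hoff with ho | ho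
    · refine sub_eq_zero.1 ((mul_eq_zero.1 (show t 0 1 * (c 0 0 - c 1 1) = 0 by
        linear_combination e01 + c 0 1 * htr)).resolve_left ho)
    · refine sub_eq_zero.1 ((mul_eq_zero.1 (show t 1 0 * (c 0 0 - c 1 1) = 0 by
        linear_combination -e10 + c 1 0 * htr)).resolve_left ho)
  rw [Matrix.det_fin_two] at dc
  refine Subtype.ext ?_
  show c * c = 1
  ext i k
  fin_cases i <;> fin_cases k <;> simp [Matrix.mul_apply, Fin.sum_univ_two]
  · linear_combination dc + c 0 1 * c 1 0 * h2 + c 0 0 * hc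
  · linear_combination c 0 1 * c 1 1 * h2 + c 0 1 * hc
  · linear_combination c 1 0 * c 1 1 * h2 + c 1 0 * hc
  · linear_combination dc + c 0 1 * c 1 0 * h2 - c 1 1 * hc

variable {L : Type u} [Group L] [Finite L] [Fintype F]

theorem isSimpleGroup_of_equiv (h4 : 4 ≤ Fintype.card F) (e : L ≃* SL(2, F)) : IsSimpleGroup L := by
  haveI := CfsgLib.Classical.isSimpleGroup_PSL_two h4
  obtain ⟨f⟩ := CfsgLib.Recog.AffineTwo.psl_equiv_sl F
  let g := f.trans e.symm
  haveI : Nontrivial L := g.injective.nontrivial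
  exact IsSimpleGroup.isSimpleGroup_of_surjective g.toMonoidHom g.surjective

theorem not_comm_of_equiv (e : L ≃* SL(2, F)) : ¬ ∀ a b : L, a * b = b * a := by
  intro h
  let up : SL(2, F) := ⟨!![1, 1; 0, 1], by simp [Matrix.det_fin_two_of]⟩
  let lo : SL(2, F) := ⟨!![1, 0; 1, 1], by simp [Matrix.det_fin_two_of]⟩
  have hc : up * lo = lo * up := e.symm.injective (by rw [map_mul, map_mul, h])
  have h' : (((!![1, 1; 0, 1] : Matrix (Fin 2) (Fin 2) F) * (!![1, 0; 1, 1] : Matrix (Fin 2) (Fin 2) F) :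
      Matrix (Fin 2) (Fin 2) F)) 0 0 =
      (((!![1, 0; 1, 1] : Matrix (Fin 2) (Fin 2) F) * (!![1, 1; 0, 1] : Matrix (Fin 2) (Fin 2) F) :
      Matrix (Fin 2) (Fin 2) F)) 0 0 :=
    congrArg (fun g : SL(2, F) => g.1 0 0) hc
  simp at h'

theorem elemCent (h4 : 4 ≤ Fintype.card F) (e : L ≃* SL(2, F)) (T : Sylow 2 L) : ElemCent T := by
  classical
  haveI : Fact (Nat.Prime 2) := ⟨Nat.prime_two⟩
  haveI := isSimpleGroup_of_equiv h4 e
  have hcent : ∀ t : L, orderOf t = 2 → ∀ c ∈ centralizer ({t} : Set L), c * c = 1 := by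
    intro t ht c hc
    have h := sq_eq_one_of_commute (t := e t) (c := e c)
      (by rw [← map_mul, CfsgLib.Signalizer.involution_sq ht, map_one])
      (fun h => CfsgLib.Signalizer.involution_ne_one ht (e.injective (h.trans (map_one e).symm)))
      (by rw [← map_mul, ← map_mul, mem_centralizer_singleton_iff.1 hc])
    rw [← map_mul, ← map_one e] at h
    exact e.injective h
  refine ⟨fun hcyc => ?_, fun hn => ?_, fun t ht => ⟨⟨⟨fun a b => ?_⟩⟩, fun c hc => by
    rw [pow_two]; exact hcent t ht c hc⟩⟩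
  · let up : F → SL(2, F) := fun x => ⟨!![1, x; 0, 1], by simp [Matrix.det_fin_two_of]⟩
    have hup : ∀ x y, up x * up y = up (x + y) := fun x y => by
      refine Subtype.ext ?_
      show (!![1, x; 0, 1] : Matrix (Fin 2) (Fin 2) F) * !![1, y; 0, 1] = !![1, x + y; 0, 1]
      simp [Matrix.mul_fin_two, add_comm]
    let U : Subgroup L := (MonoidHom.mk' (fun x : Multiplicative F => e.symm (up x.toAdd))
      (fun x y => by simp only [toAdd_mul, ← map_mul, hup])).range
    have hU : IsPGroup 2 U := by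
      rintro ⟨_, x, rfl⟩
      refine ⟨1, Subtype.ext ?_⟩
      show e.symm (up x.toAdd) ^ 2 ^ 1 = 1
      rw [pow_one, pow_two, ← map_mul, hup, CharTwo.add_self_eq_zero,
        show up 0 = 1 from Subtype.ext (by simp [up, Matrix.one_fin_two]), map_one]
    obtain ⟨R, hR⟩ := hU.exists_le_sylow
    haveI := (R.equiv T).isCyclic.2 hcyc
    letI := Fintype.ofFinite (R : Subgroup L)
    let ι : F → (R : Subgroup L) := fun x => ⟨e.symm (up x), hR ⟨Multiplicative.ofAdd x, rfl⟩⟩
    have hι : Function.Injective ι := fun x y h => by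
      have h' := congrArg (fun g : SL(2, F) => g.1 0 1) (e.symm.injective (congrArg Subtype.val h))
      simpa [up] using h'
    have hcard := IsCyclic.card_pow_eq_one_le (α := (R : Subgroup L)) (n := 2) two_pos
    have hle : Fintype.card F ≤ 2 := by
      refine le_trans ?_ hcard
      rw [← Finset.card_univ, ← Finset.card_image_of_injective _ hι]
      refine Finset.card_le_card fun z hz => ?_
      obtain ⟨x, -, rfl⟩ := Finset.mem_image.1 hz
      refine Finset.mem_filter.2 ⟨Finset.mem_univ _, Subtype.ext ?_⟩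
      show e.symm (up x) ^ 2 = 1
      rw [pow_two, ← map_mul, hup, CharTwo.add_self_eq_zero,
        show up 0 = 1 from Subtype.ext (by simp [up, Matrix.one_fin_two]), map_one]
    omega
  · haveI : Group.IsSolvable L := isSolvable_of_normal_sylow T hn
    exact not_comm_of_equiv e fun a b => by
      rcases (inferInstance : (commutator L).Normal).eq_bot_or_eq_top with h | h
      · refine commutatorElement_eq_one_iff_mul_comm.1 ?_
        rw [← Subgroup.mem_bot, ← h]
        exact commutator_mem_commutator (mem_top a) (mem_top b)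
      · exact absurd h (Group.IsSolvable.commutator_lt_top_of_nontrivial L).ne
  · refine Subtype.ext ?_
    have ha := hcent t ht _ a.2
    have hb := hcent t ht _ b.2
    have hab := hcent t ht _ (mul_mem a.2 b.2)
    show (a : L) * b = b * a
    calc (a : L) * b = ((a : L) * (b : L))⁻¹ := (inv_eq_of_mul_eq_one_right hab).symm
      _ = b * a := by rw [mul_inv_rev, inv_eq_of_mul_eq_one_right ha, inv_eq_of_mul_eq_one_right hb]

end SL

/-- An automorphism fixing `T` pointwise is conjugation by an element of `T`. -/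
theorem exists_translation {L : Type u} [Group L] [Finite L] [IsSimpleGroup L] {T : Sylow 2 L}
    (E : ElemCent T) (β : MulAut L) (hβ : ∀ t ∈ (T : Subgroup L), β t = t) :
    ∃ u ∈ (T : Subgroup L), β = MulAut.conj u := by
  set N := normalizer ((T : Subgroup L) : Set L) with hN
  have hmapN : ∀ γ : MulAut L, (∀ t ∈ (T : Subgroup L), γ t = t) → ∀ n ∈ N, γ n ∈ N := by
    intro γ hγ n hn
    have hT : ∀ s : L, γ s ∈ (T : Subgroup L) → s ∈ (T : Subgroup L) := fun s hs => by
      have := γ.injective (hγ _ hs)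
      rwa [this] at hs
    refine mem_normalizer_iff.2 fun s => ⟨fun hs => ?_, fun hs => ?_⟩
    · have := (mem_normalizer_iff.1 hn s).1 hs
      rw [← hγ s hs, show γ n * γ s * (γ n)⁻¹ = γ (n * s * n⁻¹) by simp, hγ _ this]
      exact this
    · obtain ⟨r, rfl⟩ := γ.surjective s
      rw [show γ n * γ r * (γ n)⁻¹ = γ (n * r * n⁻¹) by simp] at hs
      have := (mem_normalizer_iff.1 hn r).2 (hT _ hs)
      rw [hγ r this]
      exact this
  have hwd : ∀ γ : MulAut L, (∀ t ∈ (T : Subgroup L), γ t = t) → ∀ a b : L,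
      (a : L ⧸ N) = b → ((γ a : L) : L ⧸ N) = γ b := fun γ hγ a b h => by
    rw [QuotientGroup.eq] at h ⊢
    have := hmapN γ hγ _ h
    simpa using this
  obtain ⟨y, hy⟩ := E.exists_ne_base
  obtain ⟨m, rfl⟩ := QuotientGroup.mk_surjective y
  have hβm : ((β m : L) : L ⧸ N) ≠ ElemCent.base T := by
    intro h
    refine hy ?_
    have h' := hwd β⁻¹ (fun t ht => by
      conv_lhs => rw [← hβ t ht]
      simp) (β m) 1 h
    rw [map_one, MulAut.inv_apply, β.symm_apply_apply] at h'
    exact h'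
  obtain ⟨u, ⟨huT, hu⟩, -⟩ := E.regular hy hβm
  refine ⟨u, huT, ?_⟩
  set γ := (MulAut.conj u)⁻¹ * β with hγdef
  have hγ : ∀ t ∈ (T : Subgroup L), γ t = t := fun t ht => by
    rw [hγdef, MulAut.mul_apply, hβ t ht, MulAut.inv_apply, MulAut.conj_symm_apply]
    have hc := CfsgLib.TwoGroups.mul_comm_of_mul_self (A := (T : Subgroup L))
      (fun s hs => by rw [← pow_two]; exact E.sq_eq_one hs) huT ht
    rw [mul_assoc, ← hc, inv_mul_cancel_left]
  have hγm : ((γ m : L) : L ⧸ N) = m := by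
    rw [hγdef, MulAut.mul_apply, MulAut.inv_apply, MulAut.conj_symm_apply]
    calc ((u⁻¹ * β m * u : L) : L ⧸ N) = ((u⁻¹ * β m : L) : L ⧸ N) := by
          rw [QuotientGroup.eq]
          simp only [mul_inv_rev]
          rw [show u⁻¹ * ((β m)⁻¹ * u⁻¹⁻¹) * (u⁻¹ * β m) = u⁻¹ by group]
          exact inv_mem (le_normalizer huT)
      _ = u⁻¹ • ((β m : L) : L ⧸ N) := rfl
      _ = (m : L ⧸ N) := by rw [← hu, inv_smul_smul]
  have hfix : ∀ l : L, ((γ l : L) : L ⧸ N) = l := by
    intro l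
    by_cases hl : (l : L ⧸ N) = ElemCent.base T
    · rw [hl, hwd γ hγ l 1 hl, map_one]
    · obtain ⟨t, ⟨htT, ht⟩, -⟩ := E.regular hy hl
      have htm : ((t * m : L) : L ⧸ N) = l := ht
      rw [← hwd γ hγ _ _ htm, map_mul, hγ t htT]
      show t • ((γ m : L) : L ⧸ N) = l
      rw [hγm, ht]
  suffices γ = 1 by
    rw [hγdef, inv_mul_eq_one] at this
    exact this.symm
  refine MulEquiv.ext fun l => ?_
  have hker : (toPermHom L (L ⧸ N)).ker = ⊥ := by
    refine ((inferInstance : ((toPermHom L (L ⧸ N)).ker).Normal).eq_bot_or_eq_top).resolve_right fun h => ?_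
    refine E.nn (normalizer_eq_top_iff.1 (eq_top_iff.2 fun x _ => ?_))
    have hx : toPermHom L (L ⧸ N) x = 1 := MonoidHom.mem_ker.1 (h ▸ mem_top x)
    exact ElemCent.smul_base_iff.1 (Equiv.congr_fun hx (ElemCent.base T))
  have hmem : l⁻¹ * γ l ∈ (toPermHom L (L ⧸ N)).ker := MonoidHom.mem_ker.2 (Equiv.ext fun x => by
    obtain ⟨z, rfl⟩ := QuotientGroup.mk_surjective x
    show (l⁻¹ * γ l) • (z : L ⧸ N) = z
    conv_lhs => rw [mul_smul, ← hfix z]
    rw [show γ l • ((γ z : L) : L ⧸ N) = ((γ (l * z) : L) : L ⧸ N) by rw [map_mul]; rfl, hfix]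
    show ((l⁻¹ * (l * z) : L) : L ⧸ N) = z
    rw [inv_mul_cancel_left])
  rw [hker, mem_bot, inv_mul_eq_one] at hmem
  exact hmem.symm

variable {G : Type u} [Group G] [Finite G]

/-- A normal `SL(2, 2ⁿ)` with the Sylow subgroup in `A`. -/
theorem even_quotient {H A : Subgroup G} (D : DG H A) {F : Type} [Field F] [Fintype F] [CharP F 2]
    (h4 : 4 ≤ Fintype.card F) (L : Subgroup G) [L.Normal] (e : L ≃* SL(2, F)) (T : Sylow 2 L)
    (hTA : ∀ t ∈ (T : Subgroup L), (t : G) ∈ A) :
    ∃ (N : Subgroup G) (_ : N.Normal), (Odd (Nat.card N) ∨ ∃ m : ℕ, Odd m ∧ Nat.card N = 2 * m) ∧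
      Nonempty (G ⧸ N ≃* Matrix.ProjectiveSpecialLinearGroup (Fin 2) F) := by
  classical
  haveI : Fact (Nat.Prime 2) := ⟨Nat.prime_two⟩
  haveI := isSimpleGroup_of_equiv h4 e
  have E := elemCent h4 e T
  obtain ⟨f⟩ := CfsgLib.Recog.AffineTwo.psl_equiv_sl F
  obtain ⟨t, htT, ht⟩ : ∃ t ∈ (T : Subgroup L), orderOf t = 2 :=
    CfsgLib.Signalizer.exists_involution_of_two_group T.2 fun h => E.nc (h ▸ inferInstance)
  have htG : orderOf (t : G) = 2 := by rw [orderOf_coe, ht]
  have hCt := D.cen t (hTA t htT) htG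
  set R := centralizer (L : Set G) with hRdef
  haveI : R.Normal := Subgroup.normal_centralizer
  have hRH : R ≤ H := fun r hr => by
    rw [← hCt, mem_centralizer_singleton_iff]
    exact (mem_centralizer_iff.1 hr t t.2).symm
  have hH : ∀ h ∈ H, ∃ u ∈ (T : Subgroup L), (u : G)⁻¹ * h ∈ R := by
    intro h hh
    obtain ⟨u, huT, hu⟩ := exists_translation E (MulAut.conjNormal h) fun s hs => Subtype.ext (by
      rw [MulAut.conjNormal_apply]
      rcases eq_or_ne (s : G) 1 with h1 | h1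
      · rw [h1]; group
      have hs2 : orderOf (s : G) = 2 := by
        refine orderOf_eq_prime ?_ h1
        rw [pow_two, ← coe_mul, ← pow_two, E.sq_eq_one hs, coe_one]
      have := mem_centralizer_singleton_iff.1 ((D.cen s (hTA s hs) hs2).symm ▸ hh :
        h ∈ centralizer ({(s : G)} : Set G))
      exact mul_inv_eq_iff_eq_mul.2 this)
    refine ⟨u, huT, mem_centralizer_iff.2 fun l hl => ?_⟩
    have h' := congrArg (fun γ : MulAut L => ((γ ⟨l, hl⟩ : L) : G)) hu
    simp only [MulAut.conjNormal_apply, MulAut.conj_apply, coe_mul, coe_inv] at h'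
    calc l * ((u : G)⁻¹ * h) = (u : G)⁻¹ * ((u : G) * l * (u : G)⁻¹) * h := by group
      _ = (u : G)⁻¹ * (h * l * h⁻¹) * h := by rw [h']
      _ = _ := by group
  have hG : ∀ g : G, ∃ l ∈ L, l⁻¹ * g ∈ H := by
    intro g
    have hmem : g * t * g⁻¹ ∈ L := (inferInstance : L.Normal).conj_mem _ t.2 g
    obtain ⟨c, hc⟩ := isConj_iff.1 (SE.isConj_involutions E.stronglyEmbedded ht
      (b := ⟨g * t * g⁻¹, hmem⟩) (by rw [orderOf_mk, CfsgLib.Signalizer.orderOf_conj, htG]))
    have hc' : (c : G) * t * (c : G)⁻¹ = g * t * g⁻¹ := congrArg Subtype.val hc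
    refine ⟨c, c.2, ?_⟩
    rw [← hCt, mem_centralizer_singleton_iff]
    calc (c : G)⁻¹ * g * t = (c : G)⁻¹ * (g * t * g⁻¹) * g := by group
      _ = (c : G)⁻¹ * ((c : G) * t * (c : G)⁻¹) * g := by rw [hc']
      _ = _ := by group
  let π : L →* G ⧸ R := (QuotientGroup.mk' R).comp L.subtype
  have hπ : Function.Bijective π := by
    refine ⟨(injective_iff_map_eq_one π).2 fun l hl => ?_, fun q => ?_⟩
    · have hlR : (l : G) ∈ R := (QuotientGroup.eq_one_iff _).1 hl
      have hlc : l ∈ center L :=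
        mem_center_iff.2 fun m => Subtype.ext (mem_centralizer_iff.1 hlR m m.2)
      rcases (inferInstance : (center L).Normal).eq_bot_or_eq_top with h | h
      · rwa [h, mem_bot] at hlc
      · exact absurd (fun a b => mem_center_iff.1 (h ▸ mem_top b) a) (not_comm_of_equiv e)
    · obtain ⟨g, rfl⟩ := QuotientGroup.mk_surjective q
      obtain ⟨l, hl, hlg⟩ := hG g
      obtain ⟨u, -, hu⟩ := hH _ hlg
      refine ⟨⟨l, hl⟩ * u, QuotientGroup.eq.2 ?_⟩
      show (l * (u : G))⁻¹ * g ∈ R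
      rwa [mul_inv_rev, mul_assoc]
  refine ⟨R, inferInstance, ?_, ⟨((MulEquiv.ofBijective π hπ).symm.trans e).trans f.symm⟩⟩
  have hodd : Odd (Nat.card ↥(A ⊓ R : Subgroup G)) := by
    rw [← Nat.not_even_iff_odd, even_iff_two_dvd]
    intro h2
    obtain ⟨⟨k, hkAR⟩, hk⟩ := exists_prime_orderOf_dvd_card' 2 h2
    rw [Subgroup.orderOf_mk] at hk
    obtain ⟨hkA, hkR⟩ := Subgroup.mem_inf.1 hkAR
    have hLH : L ≤ H := fun l hl => by
      rw [← D.cen k hkA hk, mem_centralizer_singleton_iff]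
      exact mem_centralizer_iff.1 hkR l hl
    haveI := D.isSolvable
    haveI : Group.IsSolvable L := Group.isSolvable_of_isSolvable_injective (inclusion_injective hLH)
    rcases (inferInstance : (commutator L).Normal).eq_bot_or_eq_top with h | h
    · refine not_comm_of_equiv e fun a b => commutatorElement_eq_one_iff_mul_comm.1 ?_
      rw [← Subgroup.mem_bot, ← h]
      exact commutator_mem_commutator (mem_top a) (mem_top b)
    · exact (Group.IsSolvable.commutator_lt_top_of_nontrivial L).ne h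
  by_cases hRA : R ≤ A
  · left
    rwa [inf_eq_right.2 hRA] at hodd
  · right
    obtain ⟨x, hxR, hxA⟩ := SetLike.not_le_iff_exists.1 hRA
    refine ⟨_, hodd, ?_⟩
    have hidx : (A ⊓ R).relIndex R = 2 := by
      refine relIndex_eq_two_iff.2 ⟨x, hxR, fun b hb => ?_⟩
      by_cases hbA : b ∈ A
      · exact Or.inr ⟨⟨hbA, hb⟩, fun h => hxA ((mul_mem_cancel_left hbA).1 h.1)⟩
      · exact Or.inl ⟨⟨D.mul_mem_of_not_mem (hRH hb) (hRH hxR) hbA hxA, mul_mem hb hxR⟩,
          fun h => hbA h.1⟩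
    rw [← hidx, relIndex, ← Nat.card_congr (subgroupOfEquivOfLe inf_le_right).toEquiv, mul_comm,
      card_mul_index]

/-- The case of an elementary abelian centraliser. -/
theorem elementary_case (H : Subgroup G) (hH : ∀ h ∈ H, h * h = 1) (h4 : 4 ∣ Nat.card H)
    (hC : ∀ j ∈ H, orderOf j = 2 → (∀ h ∈ H, h * j = j * h) → centralizer ({j} : Set G) = H)
    (hns : ¬ Group.IsSolvable G) :
    ∃ (N : Subgroup G) (_ : N.Normal), (Odd (Nat.card N) ∨ ∃ m : ℕ, Odd m ∧ Nat.card N = 2 * m) ∧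
      ∃ (F : Type) (_ : Field F) (_ : Fintype F), 3 < Fintype.card F ∧
        (Nonempty (G ⧸ N ≃* Matrix.ProjectiveSpecialLinearGroup (Fin 2) F) ∨
          Nonempty (G ⧸ N ≃* Matrix.ProjGenLinGroup (Fin 2) F)) := by
  classical
  haveI : Fact (Nat.Prime 2) := ⟨Nat.prime_two⟩
  have hcomm : ∀ a ∈ H, ∀ b ∈ H, a * b = b * a := fun a ha b hb =>
    CfsgLib.TwoGroups.mul_comm_of_mul_self hH ha hb
  have hcen : ∀ j ∈ H, orderOf j = 2 → centralizer ({j} : Set G) = H := fun j hj hj2 =>
    hC j hj hj2 fun h hh => hcomm h hh j hj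
  have hHp : IsPGroup 2 H := fun h => ⟨1, Subtype.ext (by rw [pow_one, pow_two]; exact hH h h.2)⟩
  obtain ⟨P, hP⟩ := hHp.exists_le_sylow
  obtain ⟨⟨e₀, he₀H⟩, he₀⟩ := exists_prime_orderOf_dvd_card' 2 (dvd_trans (by norm_num) h4)
  rw [orderOf_mk] at he₀
  have hPH : (P : Subgroup G) = H := by
    haveI : Nontrivial (P : Subgroup G) := ⟨⟨e₀, hP he₀H⟩, 1, fun h =>
      CfsgLib.Signalizer.involution_ne_one he₀ (congrArg Subtype.val h)⟩
    haveI : Nontrivial (center (P : Subgroup G)) := P.2.center_nontrivial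
    have hne : (center (P : Subgroup G)).map (P : Subgroup G).subtype ≠ ⊥ := by
      rw [Ne, map_eq_bot_iff_of_injective _ (P : Subgroup G).subtype_injective]
      exact (nontrivial_iff_ne_bot _).1 inferInstance
    obtain ⟨z, ⟨z', hz', rfl⟩, hz2⟩ :=
      CfsgLib.Signalizer.exists_involution_of_two_group ((P.2.to_subgroup _).map _) hne
    have hzc : ∀ p ∈ (P : Subgroup G), p * (z' : G) = z' * p := fun p hp =>
      congrArg Subtype.val (mem_center_iff.1 hz' ⟨p, hp⟩)
    have hzH : (z' : G) ∈ H := by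
      rw [← hcen e₀ he₀H he₀, mem_centralizer_singleton_iff]
      exact (hzc e₀ (hP he₀H)).symm
    refine le_antisymm (fun p hp => ?_) hP
    rw [← hcen z' hzH hz2, mem_centralizer_singleton_iff]
    exact hzc p hp
  have hab : ∀ t : G, orderOf t = 2 → IsMulCommutative (centralizer ({t} : Set G)) ∧
      ∀ c ∈ centralizer ({t} : Set G), c * c = 1 := by
    intro t ht
    obtain ⟨R, hR⟩ := (IsPGroup.of_card (n := 1) (G := zpowers t)
      (by rw [Nat.card_zpowers, ht, pow_one])).exists_le_sylow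
    obtain ⟨g, hg⟩ := MulAction.exists_smul_eq G R P
    have htH : g * t * g⁻¹ ∈ H := by
      rw [← hPH, ← hg, Sylow.coe_subgroup_smul]
      exact Subgroup.smul_mem_pointwise_smul t _ _ (hR (mem_zpowers t))
    have hgt : orderOf (g * t * g⁻¹) = 2 := by rw [CfsgLib.Signalizer.orderOf_conj, ht]
    have hmem : ∀ c ∈ centralizer ({t} : Set G), g * c * g⁻¹ ∈ H := fun c hc => by
      rw [← hcen _ htH hgt, mem_centralizer_singleton_iff]
      calc g * c * g⁻¹ * (g * t * g⁻¹) = g * (c * t) * g⁻¹ := by group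
        _ = _ := by rw [mem_centralizer_singleton_iff.1 hc]; group
    refine ⟨⟨⟨fun a b => Subtype.ext ?_⟩⟩, fun c hc => ?_⟩
    · have h := hcomm _ (hmem _ a.2) _ (hmem _ b.2)
      refine (MulAut.conj g).injective ?_
      simp only [coe_mul, map_mul, MulAut.conj_apply]
      exact h
    · refine (MulAut.conj g).injective ?_
      simp only [map_mul, map_one, MulAut.conj_apply]
      exact hH _ (hmem c hc)
  have heven : Even (Nat.card G) :=
    even_iff_two_dvd.2 (he₀ ▸ orderOf_dvd_natCard e₀)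
  rcases Cfsg.Agent.S2202.result heven (fun t ht => (hab t ht).1) with hc | hn |
    ⟨F, iF, iF', A', iA, iA', hF2, hAodd, ⟨e⟩⟩
  · exact absurd (isSolvable_of_cyclic_sylow P (hc P)) hns
  · exact absurd (isSolvable_of_normal_sylow P (hn P)) hns
  haveI := hF2
  let t₀ : SL(2, F) := ⟨!![1, 1; 0, 1], by simp [Matrix.det_fin_two_of]⟩
  have ht₀ : orderOf t₀ = 2 := by
    refine orderOf_eq_prime ?_ fun h => ?_
    · refine Subtype.ext ?_
      rw [pow_two]
      show (!![1, 1; 0, 1] : Matrix (Fin 2) (Fin 2) F) * !![1, 1; 0, 1] = 1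
      ext i k
      fin_cases i <;> fin_cases k <;> simp [Matrix.mul_apply, Fin.sum_univ_two, CharTwo.add_self_eq_zero]
    · have := congrArg (fun g : SL(2, F) => g.1 0 1) h
      simp [t₀] at this
  have hA1 : ∀ a : A', a = 1 := by
    intro a
    have ht : orderOf (e.symm (t₀, (1 : A'))) = 2 := by
      rw [e.symm.orderOf_eq, Prod.orderOf_mk, ht₀, orderOf_one]; rfl
    have h := (hab _ ht).2 (e.symm ((1 : SL(2, F)), a)) (by
      rw [mem_centralizer_singleton_iff, ← map_mul, ← map_mul]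
      simp)
    rw [← map_mul, MulEquiv.map_eq_one_iff, Prod.ext_iff] at h
    have h1 : orderOf a ∣ 2 := orderOf_dvd_of_pow_eq_one (by rw [pow_two]; exact h.2)
    have h3 := hAodd.of_dvd_nat (orderOf_dvd_natCard a)
    rcases (Nat.dvd_prime Nat.prime_two).1 h1 with h1 | h1
    · exact orderOf_eq_one_iff.1 h1
    · rw [h1] at h3; exact absurd h3 (by decide)
  let e' : G ≃* SL(2, F) := e.trans
    { toFun := Prod.fst
      invFun := fun s => (s, 1)
      left_inv := fun p => Prod.ext rfl (hA1 p.2).symm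
      right_inv := fun _ => rfl
      map_mul' := fun _ _ => rfl }
  have h4F : 4 ≤ Fintype.card F := by
    by_contra hlt
    obtain ⟨k, -, hk⟩ := FiniteField.card F 2
    have hk1 : (k : ℕ) = 1 := by
      rcases Nat.lt_or_ge (k : ℕ) 2 with h | h
      · have := k.pos; omega
      · have := Nat.pow_le_pow_right two_pos h
        omega
    rw [hk1, pow_one] at hk
    have hcard : Nat.card G = 6 := by
      rw [Nat.card_congr e'.toEquiv, CfsgLib.Classical.SL2Pair.card_SL_two, hk]; norm_num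
    have h6 : 4 ∣ Nat.card G := h4.trans (card_subgroup_dvd_card H)
    rw [hcard] at h6
    omega
  obtain ⟨f⟩ := CfsgLib.Recog.AffineTwo.psl_equiv_sl F
  exact ⟨⊥, inferInstance, Or.inl (by rw [card_bot]; exact odd_one), F, iF, iF', h4F,
    Or.inl ⟨(QuotientGroup.quotientBot.trans e').trans f.symm⟩⟩

/-- The case of two involutions in `A`. -/
theorem two_involutions_case {H A : Subgroup G} (D : DG H A) {i k : G} (hi : i ∈ A) (hk : k ∈ A)
    (hi2 : orderOf i = 2) (hk2 : orderOf k = 2) (hik : i ≠ k) (hns : ¬ Group.IsSolvable G) :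
    ∃ (N : Subgroup G) (_ : N.Normal), (Odd (Nat.card N) ∨ ∃ m : ℕ, Odd m ∧ Nat.card N = 2 * m) ∧
      ∃ (F : Type) (_ : Field F) (_ : Fintype F), 3 < Fintype.card F ∧
        (Nonempty (G ⧸ N ≃* Matrix.ProjectiveSpecialLinearGroup (Fin 2) F) ∨
          Nonempty (G ⧸ N ≃* Matrix.ProjGenLinGroup (Fin 2) F)) := by
  classical
  haveI : Fact (Nat.Prime 2) := ⟨Nat.prime_two⟩
  obtain ⟨S₀⟩ : Nonempty (Sylow 2 H) := inferInstance
  obtain ⟨P, hP⟩ := (S₀.2.map H.subtype).exists_le_sylow
  let E : Subgroup G :=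
    { carrier := {a | a ∈ A ∧ a * a = 1}
      one_mem' := ⟨one_mem A, one_mul 1⟩
      mul_mem' := fun {a b} ha hb => ⟨mul_mem ha.1 hb.1, by
        rw [show a * b * (a * b) = a * (b * a) * b by group, D.comm b hb.1 a ha.1,
          show a * (a * b) * b = (a * a) * (b * b) by group, ha.2, hb.2, one_mul]⟩
      inv_mem' := fun {a} ha => ⟨inv_mem ha.1, by rw [← mul_inv_rev, ha.2, inv_one]⟩ }
  have hiE : i ∈ E := ⟨hi, CfsgLib.Signalizer.involution_sq hi2⟩
  have hconjA : ∀ a ∈ A, ∀ g : G, orderOf a = 2 → g * a * g⁻¹ ∈ H → g * a * g⁻¹ ∈ A := by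
    intro a ha g ha2 hg
    by_contra hno
    exact D.not_conj hi hk hi2 hk2 hik (g := g⁻¹) hg hno ha ha2 (by group)
  -- `S₀` contains `E`
  have hES : E ≤ (S₀ : Subgroup H).map H.subtype := by
    intro a ha
    have hEp : IsPGroup 2 (E.subgroupOf H) := fun x =>
      ⟨1, Subtype.ext (Subtype.ext (by rw [pow_one, pow_two]; exact (mem_subgroupOf.1 x.2).2))⟩
    haveI : (E.subgroupOf H).Normal := ⟨fun x hx h => mem_subgroupOf.2 ⟨
      D.conj_mem (mem_subgroupOf.1 hx).1 h.2, by
        show (h : G) * x * (h : G)⁻¹ * (h * x * (h : G)⁻¹) = 1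
        rw [show (h : G) * x * (h : G)⁻¹ * (h * x * (h : G)⁻¹) = h * ((x : G) * x) * (h : G)⁻¹ by group,
          (mem_subgroupOf.1 hx).2]
        group⟩⟩
    exact ⟨⟨a, D.le ha.1⟩, CfsgLib.Core.le_pCore hEp |>.trans (CfsgLib.Core.pCore_le_sylow S₀)
      (mem_subgroupOf.2 ha), rfl⟩
  -- every element of `P` normalising `P ⊓ H` lies in `H`
  have hPH : (P : Subgroup G) ≤ H := by
    by_contra hnot
    haveI := P.2.isNilpotent
    have hlt : ((P : Subgroup G) ⊓ H).subgroupOf P < ⊤ := lt_top_iff_ne_top.2 fun h =>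
      hnot ((subgroupOf_eq_top.1 h).trans inf_le_right)
    have hnc := normalizerCondition_of_isNilpotent (G := (P : Subgroup G)) _ hlt
    obtain ⟨⟨q, hqP⟩, hq, hqn⟩ := SetLike.exists_of_lt hnc
    have hqn' : q ∉ H := fun h => hqn (mem_subgroupOf.2 ⟨hqP, h⟩)
    have hEP : E ≤ (P : Subgroup G) := hES.trans hP
    have hqE : ∀ a ∈ E, q * a * q⁻¹ ∈ E := by
      intro a ha
      rcases eq_or_ne a 1 with rfl | ha1
      · simpa using one_mem E
      have ha2 : orderOf a = 2 := CfsgLib.Signalizer.orderOf_eq_two_of ha1 ha.2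
      have hm := (mem_normalizer_iff.1 hq ⟨a, hEP ha⟩).1
        (mem_subgroupOf.2 ⟨hEP ha, D.le ha.1⟩)
      exact ⟨hconjA a ha.1 q ha2 (mem_subgroupOf.1 hm).2, by
        rw [show q * a * q⁻¹ * (q * a * q⁻¹) = q * (a * a) * q⁻¹ by group, ha.2]; group⟩
    let Q : Subgroup G := zpowers q ⊔ E
    have hQP : Q ≤ (P : Subgroup G) := sup_le (zpowers_le.2 hqP) hEP
    have hQE : Q ≤ normalizer (E : Set G) := by
      refine sup_le (zpowers_le.2 (mem_normalizer_iff_map_conj_eq.2 (eq_of_le_of_card_ge (by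
        rintro _ ⟨a, ha, rfl⟩; exact hqE a ha)
        (by rw [card_map_of_injective]; exact (MulAut.conj q).injective)))) le_normalizer
    haveI : Group.IsNilpotent Q := (P.2.to_le hQP).isNilpotent
    haveI : (E.subgroupOf Q).Normal := normal_subgroupOf_of_le_normalizer hQE
    obtain ⟨a, ⟨haE, haZ⟩, ha1⟩ := (bot_or_exists_ne_one (E.subgroupOf Q ⊓ center Q)).resolve_left
      (CfsgLib.Core.inf_center_ne_bot_of_isNilpotent _ fun h =>
        CfsgLib.Signalizer.involution_ne_one hi2 (congrArg Subtype.val ((Subgroup.eq_bot_iff_forall _).1 h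
          ⟨i, mem_sup_right hiE⟩ (mem_subgroupOf.2 hiE))))
    have ha : (a : G) ∈ E := mem_subgroupOf.1 haE
    refine hqn' ?_
    rw [← D.cen a ha.1 (CfsgLib.Signalizer.orderOf_eq_two_of (fun h => ha1 (Subtype.ext h)) ha.2),
      mem_centralizer_singleton_iff]
    exact congrArg Subtype.val (mem_center_iff.1 haZ ⟨q, mem_sup_left (mem_zpowers q)⟩)
  have hPA : ¬ (P : Subgroup G) ≤ A := D.not_le hPH
    (fun h => P.not_dvd_index (h.trans (relIndex_dvd_index_of_le hPH)))
  obtain ⟨y₀, hy₀P, hy₀A⟩ := SetLike.not_le_iff_exists.1 hPA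
  have hQi : (A ⊓ (P : Subgroup G)).relIndex (P : Subgroup G) = 2 := by
    refine relIndex_eq_two_iff.2 ⟨y₀, hy₀P, fun b hb => ?_⟩
    by_cases hbA : b ∈ A
    · exact Or.inr ⟨⟨hbA, hb⟩, fun h => hy₀A ((mul_mem_cancel_left hbA).1 h.1)⟩
    · exact Or.inl ⟨⟨D.mul_mem_of_not_mem (hPH hb) (hPH hy₀P) hbA hy₀A, mul_mem hb hy₀P⟩,
        fun h => hbA h.1⟩
  -- the intersection of the normal subgroups of index two
  set G₁ : Subgroup G := sInf {M : Subgroup G | M.Normal ∧ M.index = 2} with hG₁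
  have hcomG₁ : commutator G ≤ G₁ := le_sInf fun M ⟨hMn, hM⟩ => by
    haveI := hMn
    haveI : IsCyclic (G ⧸ M) := isCyclic_of_prime_card (p := 2) (by rw [← index_eq_card, hM])
    exact Subgroup.Normal.quotient_commutative_iff_commutator_le.1
      ⟨⟨fun a b => IsCyclic.commGroup.mul_comm a b⟩⟩
  haveI hG₁n : G₁.Normal := ⟨fun x hx g => by
    rw [show g * x * g⁻¹ = g * x * g⁻¹ * x⁻¹ * x by group]
    exact mul_mem (hcomG₁ (commutator_mem_commutator (mem_top g) (mem_top x))) hx⟩
  have hG₁H : ∀ y ∈ H, y ∈ G₁ → y ∈ A := by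
    intro y hyH hyG
    by_contra hyA
    have hy2 : orderOf y = 2 :=
      CfsgLib.Signalizer.orderOf_eq_two_of (fun h => hyA (h ▸ one_mem A)) (D.sq y hyH hyA)
    obtain ⟨R, hR⟩ := (IsPGroup.of_card (n := 1) (G := zpowers (⟨y, hyH⟩ : H))
      (by rw [Nat.card_zpowers, orderOf_mk, hy2, pow_one])).exists_le_sylow
    obtain ⟨h, hh⟩ := MulAction.exists_smul_eq H R S₀
    have hyP : (h : G) * y * (h : G)⁻¹ ∈ (P : Subgroup G) := hP ⟨h * ⟨y, hyH⟩ * h⁻¹, by
      rw [← hh, Sylow.coe_subgroup_smul]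
      exact Subgroup.smul_mem_pointwise_smul _ _ _ (hR (mem_zpowers _)), rfl⟩
    have hyA' : (h : G) * y * (h : G)⁻¹ ∉ A := fun hA => hyA (by
      have := D.conj_mem hA (inv_mem h.2)
      simpa [mul_assoc] using this)
    rcases CfsgLib.Transfer.thompson_transfer P _ hQi
      (u := (h : G) * y * (h : G)⁻¹) (by rw [CfsgLib.Signalizer.orderOf_conj, hy2]) with
      ⟨M, hMn, hM, huM⟩ | ⟨g, hg⟩
    · exact huM ((sInf_le ⟨hMn, hM⟩ : G₁ ≤ M) (hG₁n.conj_mem y hyG h))
    · exact D.not_conj hi hk hi2 hk2 hik (hPH hyP) hyA' (g := g) hg.1 (by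
        rw [CfsgLib.Signalizer.orderOf_conj, CfsgLib.Signalizer.orderOf_conj, hy2]) rfl
  have hns₁ : ¬ Group.IsSolvable G₁ := fun h => hns (by
    haveI := h
    haveI : Group.IsSolvable (commutator G) :=
      Group.isSolvable_of_isSolvable_injective (inclusion_injective hcomG₁)
    haveI : Group.IsSolvable (G ⧸ commutator G) := Group.isSolvable_of_comm fun a b =>
      (inferInstance : CommGroup (Abelianization G)).mul_comm a b
    exact Group.isSolvable_of_ker_le_range (commutator G).subtype (QuotientGroup.mk' (commutator G))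
      (by simp))
  have hconjP : ∀ {t : G}, orderOf t = 2 → ∃ g : G, g * t * g⁻¹ ∈ (P : Subgroup G) := by
    intro t ht
    obtain ⟨R, hR⟩ := (IsPGroup.of_card (n := 1) (G := zpowers t)
      (by rw [Nat.card_zpowers, ht, pow_one])).exists_le_sylow
    obtain ⟨g, hg⟩ := MulAction.exists_smul_eq G R P
    exact ⟨g, by rw [← hg, Sylow.coe_subgroup_smul];
                 exact Subgroup.smul_mem_pointwise_smul t _ _ (hR (mem_zpowers t))⟩
  have hab : ∀ t : G₁, orderOf t = 2 → IsMulCommutative (centralizer ({t} : Set G₁)) := by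
    intro t ht
    have ht' : orderOf (t : G) = 2 := by rw [orderOf_coe, ht]
    obtain ⟨g, hg⟩ := hconjP ht'
    have hA := hG₁H _ (hPH hg) (hG₁n.conj_mem _ t.2 g)
    have hmem : ∀ c : centralizer ({t} : Set G₁), g * ((c : G₁) : G) * g⁻¹ ∈ A := fun c => by
      refine hG₁H _ ?_ (hG₁n.conj_mem _ (c : G₁).2 g)
      rw [← D.cen _ hA (by rw [CfsgLib.Signalizer.orderOf_conj, ht']), mem_centralizer_singleton_iff]
      calc g * ((c : G₁) : G) * g⁻¹ * (g * t * g⁻¹) = g * (((c : G₁) : G) * t) * g⁻¹ := by group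
        _ = _ := by
          rw [show ((c : G₁) : G) * t = (t : G) * (c : G₁) from
            congrArg Subtype.val (mem_centralizer_singleton_iff.1 c.2)]
          group
    refine ⟨⟨fun a b => Subtype.ext (Subtype.ext ?_)⟩⟩
    refine (MulAut.conj g).injective ?_
    simp only [coe_mul, map_mul, MulAut.conj_apply]
    exact D.comm _ (hmem a) _ (hmem b)
  have heven₁ : Even (Nat.card G₁) := by
    by_contra h
    exact hns₁ (CfsgLib.OddLocal.FTFinal.odd_order_solvable (Nat.not_even_iff_odd.1 h))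
  obtain ⟨P₁⟩ : Nonempty (Sylow 2 G₁) := inferInstance
  rcases Cfsg.Agent.S2202.result heven₁ hab with hc | hn | ⟨F, iF, iF', A', iA, iA', hF2, -, ⟨e⟩⟩
  · exact absurd (isSolvable_of_cyclic_sylow P₁ (hc P₁)) hns₁
  · exact absurd (isSolvable_of_normal_sylow P₁ (hn P₁)) hns₁
  haveI := hF2
  have h4F : 4 ≤ Fintype.card F := by
    by_contra hlt
    obtain ⟨r, -, hr⟩ := FiniteField.card F 2
    have hr1 : (r : ℕ) = 1 := by
      rcases Nat.lt_or_ge (r : ℕ) 2 with h | h
      · have := r.pos; omega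
      · have := Nat.pow_le_pow_right two_pos h
        omega
    rw [hr1, pow_one] at hr
    refine hns₁ ?_
    haveI : Group.IsSolvable SL(2, F) :=
      CfsgLib.Known.GLFourTwo.isSolvable_of_lt_sixty (by
        rw [CfsgLib.Classical.SL2Pair.card_SL_two, hr]; norm_num)
    haveI : Group.IsSolvable A' := Group.isSolvable_of_comm fun a b => mul_comm a b
    exact Group.isSolvable_of_isSolvable_injective (f := e.toMonoidHom) e.injective
  set L₁ : Subgroup G₁ := commutator G₁
  haveI : (L₁.map G₁.subtype).Normal := ConjAct.normal_of_characteristic_of_normal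
  let φ : L₁ →* SL(2, F) := (MonoidHom.fst _ _).comp (e.toMonoidHom.comp L₁.subtype)
  have hφ : Function.Bijective φ := by
    refine ⟨(injective_iff_map_eq_one φ).2 fun x hx => ?_, fun s => ?_⟩
    · have h2 : (e x).2 = 1 := MonoidHom.mem_ker.1 (Abelianization.commutator_subset_ker
        ((MonoidHom.snd SL(2, F) A').comp e.toMonoidHom) x.2)
      exact Subtype.ext (e.injective (by rw [coe_one, map_one]; exact Prod.ext hx h2))
    · have hs : s ∈ commutator SL(2, F) :=
        CfsgLib.Classical.commutator_SL_two_eq_top h4F ▸ mem_top s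
      let ι : SL(2, F) →* G₁ := e.symm.toMonoidHom.comp (MonoidHom.inl _ _)
      have hm : ι s ∈ L₁ := by
        have := mem_map_of_mem ι hs
        rw [_root_.commutator_def, map_commutator] at this
        exact commutator_mono le_top le_top this
      refine ⟨⟨ι s, hm⟩, ?_⟩
      show (e (e.symm (s, (1 : A')))).1 = s
      rw [e.apply_symm_apply]
  let eL : ↥(L₁.map G₁.subtype) ≃* SL(2, F) :=
    (L₁.equivMapOfInjective G₁.subtype G₁.subtype_injective).symm.trans (MulEquiv.ofBijective φ hφ)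
  set L := L₁.map G₁.subtype
  obtain ⟨T₀⟩ : Nonempty (Sylow 2 L) := inferInstance
  obtain ⟨R, hR⟩ := (T₀.2.map L.subtype).exists_le_sylow
  obtain ⟨g, hg⟩ := MulAction.exists_smul_eq G R P
  let T : Sylow 2 L := T₀.mapSurjective
    (f := (MulAut.conjNormal g : MulAut L).toMonoidHom) (MulEquiv.surjective _)
  obtain ⟨N, hN, hcard, ⟨eN⟩⟩ := even_quotient D h4F L eL T fun t ht => by
    obtain ⟨t₀, ht₀, rfl⟩ := ht
    show ((MulAut.conjNormal g t₀ : L) : G) ∈ A
    rw [MulAut.conjNormal_apply]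
    have hP' : g * (t₀ : G) * g⁻¹ ∈ (P : Subgroup G) := by
      rw [← hg, Sylow.coe_subgroup_smul]
      exact Subgroup.smul_mem_pointwise_smul _ _ _ (hR ⟨t₀, ht₀, rfl⟩)
    exact hG₁H _ (hPH hP') (hG₁n.conj_mem _ (map_subtype_le L₁ t₀.2) g)
  exact ⟨N, hN, hcard, F, iF, iF', h4F, Or.inl ⟨eN⟩⟩

end CfsgLib.GW.DGroup
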