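import Cfsg.Agent.Lib.TwoGroups.SemiDihedralSubgroups
import Cfsg.Agent.Lib.TwoGroups.SemiDihedralShapes

/-!
# The semidihedral model: involutions off the centre, and the dihedral quotient by the centre
-/

set_option autoImplicit false

namespace CfsgLib.GW.DGroup.Semi

open CfsgLib.TwoGroups CfsgLib.TwoGroups.SemiDihedral

variable {m : ℕ}

/-- The central involution. -/
theorem eq_rot_h {x : SemiDihedral m} (hx : orderOf x = 2) (hc : ∀ v, v * x = x * v) : x = rot (h m) := by
  rcases (orderOf_eq_two_iff x).1 hx with rfl | ⟨c, rfl⟩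
  · rfl
  · exfalso
    have hmem : ref (2 * c) ∈ Subgroup.center (SemiDihedral m) := Subgroup.mem_center_iff.2 hc
    rw [center_eq] at hmem
    obtain ⟨k, hk⟩ := Subgroup.mem_zpowers_iff.1 hmem
    have h2 : orderOf (rot (h m)) = 2 := (orderOf_eq_two_iff _).2 (Or.inl rfl)
    rw [← zpow_mod_orderOf, h2] at hk
    rcases Int.emod_two_eq k with e | e
    · simp [e, one_def] at hk
    · simp [e] at hk

theorem isConj_of_ne {x y : SemiDihedral m} (hx : orderOf x = 2) (hy : orderOf y = 2)
    (hx' : x ≠ rot (h m)) (hy' : y ≠ rot (h m)) : IsConj x y := by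
  obtain ⟨c, rfl⟩ := ((orderOf_eq_two_iff x).1 hx).resolve_left hx'
  obtain ⟨d, rfl⟩ := ((orderOf_eq_two_iff y).1 hy).resolve_left hy'
  obtain ⟨j, hj⟩ := exists_rot_conj (2 * c) (d - c)
  exact isConj_iff.2 ⟨rot j, by rw [hj]; congr 1; ring⟩

theorem not_mem_mix {x : SemiDihedral m} (hx : orderOf x = 2) (hx' : x ≠ rot (h m)) : x ∉ mix m := by
  obtain ⟨c, rfl⟩ := ((orderOf_eq_two_iff x).1 hx).resolve_left hx'
  rw [ref_mem_mix]
  intro e
  rw [h_mul_even ⟨c, rfl⟩] at e
  exact h_ne e.symm

/-- The quotient by the centre is dihedral. -/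
theorem exists_quotient (m : ℕ) : ∃ f : SemiDihedral m →* DihedralGroup (2 ^ (m + 2)),
    Function.Surjective f ∧ ∀ g, f g = 1 ↔ (g = 1 ∨ g = rot (h m)) := by
  haveI : NeZero (2 ^ (m + 2)) := ⟨pow_ne_zero _ two_ne_zero⟩
  haveI : NeZero (2 ^ (m + 3)) := ⟨pow_ne_zero _ two_ne_zero⟩
  let φ : ZMod (2 ^ (m + 3)) →+* ZMod (2 ^ (m + 2)) :=
    ZMod.castHom (pow_dvd_pow 2 (Nat.le_succ _)) _
  have hφh : φ (h m) = 0 := by
    show φ (half (m + 3)) = 0
    rw [half, map_natCast]
    exact ZMod.natCast_self _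
  have hker : ∀ b, φ b = 0 → b = 0 ∨ b = h m := by
    intro b hb
    rw [show φ b = ((b.val : ℕ) : ZMod (2 ^ (m + 2))) by
      conv_lhs => rw [← ZMod.natCast_zmod_val b]
      rw [map_natCast], ZMod.natCast_eq_zero_iff] at hb
    obtain ⟨k, hk⟩ := hb
    have hlt := b.val_lt
    rw [hk, pow_succ 2 (m + 2)] at hlt
    have hk2 : k < 2 := Nat.lt_of_mul_lt_mul_left hlt
    interval_cases k
    · exact Or.inl ((ZMod.val_eq_zero b).1 (by rw [hk, mul_zero]))
    · right
      rw [← ZMod.natCast_zmod_val b, hk, mul_one]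
      rfl
  let f : SemiDihedral m →* DihedralGroup (2 ^ (m + 2)) :=
    { toFun := fun g => if g.e then DihedralGroup.sr (-φ g.a) else DihedralGroup.r (φ g.a)
      map_one' := by simp [one_def]
      map_mul' := by
        refine cases' (fun b => cases' (fun c => ?_) (fun c => ?_))
          (fun a => cases' (fun c => ?_) (fun c => ?_))
        all_goals simp only [rot_mul_rot, rot_mul_ref, ref_mul_rot, ref_mul_ref, if_true, Bool.false_eq_true,
          if_false, map_add, map_sub, map_mul, hφh, zero_mul, zero_sub, DihedralGroup.r_mul_r,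
          DihedralGroup.r_mul_sr, DihedralGroup.sr_mul_r, DihedralGroup.sr_mul_sr]
        all_goals (congr 1; ring) }
  refine ⟨f, ?_, ?_⟩
  · have hs : Function.Surjective φ := ZMod.castHom_surjective _
    rintro (i | i)
    · obtain ⟨b, rfl⟩ := hs i
      exact ⟨rot b, by simp [f]⟩
    · obtain ⟨b, hb⟩ := hs (-i)
      exact ⟨ref b, by simp [f, hb]⟩
  · refine cases' (fun b => ?_) (fun a => ?_)
    · constructor
      · intro hb
        change DihedralGroup.r (φ b) = 1 at hb
        rw [DihedralGroup.one_def, DihedralGroup.r.injEq] at hb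
        rcases hker b hb with rfl | rfl
        · exact Or.inl one_def.symm
        · exact Or.inr rfl
      · rintro (e | e)
        · rw [e, map_one]
        · rw [e]; simp [f, hφh]
    · constructor
      · intro hb
        change DihedralGroup.sr (-φ a) = 1 at hb
        rw [DihedralGroup.one_def] at hb
        cases hb
      · rintro (e | e)
        · rw [e, map_one]
        · exact absurd e.symm (rot_ne_ref _ _)

end CfsgLib.GW.DGroup.Semi
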