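import Cfsg.Agent.Lib.GW.DGroup.Even
import Cfsg.Agent.Lib.GW.DGroup.Dihedral
import Cfsg.Agent.Lib.GW.DGroup.Semi
import Cfsg.Agent.Lib.GW.Deps.RankOne
import Cfsg.Agent.Lib.Core.UniqueOrderP
import Cfsg.Agent.Lib.PLocal.PConstrained
import Cfsg.Agent.Lib.TwoGroups.DihedralFusion
import Cfsg.Agent.S3224
import Cfsg.Agent.S0225

/-!
# S3322 given Gorenstein-Walter

A non-solvable group with a generalised dihedral centraliser is `PSL(2, q)` or `PGL(2, q)` modulo a
normal subgroup of order odd or twice odd.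
-/

set_option autoImplicit false

namespace CfsgLib.GW.DGroup

open Subgroup
open CfsgLib.Signalizer (involution_sq involution_ne_one orderOf_conj orderOf_eq_two_of)

universe u

/-- Trivial core and a dihedral Sylow 2-subgroup. -/
theorem ambient_of_sylow_core {X : Type*} [Group X] [Finite X] (hO : Cfsg.oddCore X = ⊥) (S : Sylow 2 X)
    {n : ℕ} (hn : 1 ≤ n) (e : (S : Subgroup X) ≃* DihedralGroup (2 ^ n)) : KFactsProof.Ambient n X := by
  haveI : Fact (Nat.Prime 2) := ⟨Nat.prime_two⟩
  refine ⟨hn, hO, fun Q hQ => ?_⟩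
  obtain ⟨R, hR⟩ := hQ.exists_le_sylow
  exact ⟨e.toMonoidHom.comp ((Sylow.equiv R S).toMonoidHom.comp (inclusion hR)),
    e.injective.comp ((Sylow.equiv R S).injective.comp (inclusion_injective hR))⟩

theorem not_isSolvable_quotient {G : Type*} [Group G] (N : Subgroup G) [N.Normal]
    (hN : Group.IsSolvable N) (hns : ¬ Group.IsSolvable G) : ¬ Group.IsSolvable (G ⧸ N) := fun h => by
  haveI := h
  haveI := hN
  exact hns (Group.isSolvable_of_ker_le_range N.subtype (QuotientGroup.mk' N) (by simp))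

theorem odd_oddCore (G : Type*) [Group G] [Finite G] : Odd (Nat.card (Cfsg.oddCore G)) :=
  Nat.coprime_two_right.1 (CfsgLib.Core.coprime_card_pPrimeCore 2 G)

theorem map_centralizer_singleton {G : Type*} [Group G] [Finite G] {j : G} (hj : orderOf j = 2) :
    (centralizer ({j} : Set G)).map (QuotientGroup.mk' (Cfsg.oddCore G)) =
      centralizer ({QuotientGroup.mk' (Cfsg.oddCore G) j} : Set (G ⧸ Cfsg.oddCore G)) := by
  haveI : Fact (Nat.Prime 2) := ⟨Nat.prime_two⟩
  have hP : IsPGroup 2 (zpowers j) := IsPGroup.of_card (n := 1) (by rw [Nat.card_zpowers, hj, pow_one])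
  have hc : ∀ {K : Type _} [Group K] (k : K), centralizer ((zpowers k : Subgroup K) : Set K) =
      centralizer ({k} : Set K) := fun k => by rw [zpowers_eq_closure, centralizer_closure]
  rw [← hc, ← hc, ← MonoidHom.map_zpowers]
  exact CfsgLib.PLocal.map_centralizer_eq _ (CfsgLib.Core.coprime_card_pPrimeCore 2 G) hP

variable {G : Type u} [Group G] [Finite G] {H A : Subgroup G}

/-- The only involution of `A` survives in the quotient by the core. -/
theorem image_involution (D : DG H A) {j : G} (hu : ∀ k ∈ A, orderOf k = 2 → k = j)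
    {a : G} (ha : a ∈ A) (h2 : QuotientGroup.mk' (Cfsg.oddCore G) a * QuotientGroup.mk' (Cfsg.oddCore G) a = 1) :
    QuotientGroup.mk' (Cfsg.oddCore G) a = 1 ∨
      QuotientGroup.mk' (Cfsg.oddCore G) a = QuotientGroup.mk' (Cfsg.oddCore G) j := by
  set π := QuotientGroup.mk' (Cfsg.oddCore G)
  obtain ⟨k, hk⟩ := odd_oddCore G
  have hO : a * a ∈ Cfsg.oddCore G := (QuotientGroup.eq_one_iff _).1 ((map_mul π a a).trans h2)
  have hm : a ^ (2 * k + 1) * a ^ (2 * k + 1) = 1 := by
    rw [← (Commute.refl a).mul_pow, ← hk]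
    have := pow_card_eq_one' (x := (⟨_, hO⟩ : Cfsg.oddCore G))
    exact congrArg Subtype.val this
  have heq : π a = π (a ^ (2 * k + 1)) := by
    rw [map_pow, pow_succ, pow_mul, pow_two, h2, one_pow, one_mul]
  rcases eq_or_ne (a ^ (2 * k + 1)) 1 with h1 | h1
  · exact Or.inl (by rw [heq, h1, map_one])
  · exact Or.inr (by rw [heq, hu _ (pow_mem ha _) (orderOf_eq_two_of h1 hm)])

/-- Dihedral Sylow 2-subgroups. -/
theorem dihedral_case (gw : CfsgLib.GW.GWStatement.{u}) (D : DG H A) {j : G} (hjA : j ∈ A)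
    (hj : orderOf j = 2) (hu : ∀ k ∈ A, orderOf k = 2 → k = j) (hns : ¬ Group.IsSolvable G)
    (S : Sylow 2 G) {n : ℕ} (hn : 1 ≤ n) (e : (S : Subgroup G) ≃* DihedralGroup (2 ^ n)) :
    ∃ (N : Subgroup G) (_ : N.Normal), (Odd (Nat.card N) ∨ ∃ m : ℕ, Odd m ∧ Nat.card N = 2 * m) ∧
      ∃ (F : Type) (_ : Field F) (_ : Fintype F), 3 < Fintype.card F ∧
        (Nonempty (G ⧸ N ≃* Matrix.ProjectiveSpecialLinearGroup (Fin 2) F) ∨
          Nonempty (G ⧸ N ≃* Matrix.ProjGenLinGroup (Fin 2) F)) := by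
  haveI : Fact (Nat.Prime 2) := ⟨Nat.prime_two⟩
  set π := QuotientGroup.mk' (Cfsg.oddCore G) with hπ
  have A' := ambient_of_sylow S hn e
  have hnsK := not_isSolvable_quotient (Cfsg.oddCore G)
    (CfsgLib.OddLocal.FTFinal.odd_order_solvable (odd_oddCore G)) hns
  have hCj : centralizer ({π j} : Set (G ⧸ Cfsg.oddCore G)) = H.map π := by
    rw [← map_centralizer_singleton hj, D.cen j hjA hj]
  have hj1 : π j ≠ 1 := fun h => by
    have hmem : j ∈ Cfsg.oddCore G := (QuotientGroup.eq_one_iff _).1 h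
    have h2 := (odd_oddCore G).of_dvd_nat (Subgroup.orderOf_dvd_natCard _ hmem)
    rw [hj] at h2
    exact absurd h2 (by decide)
  have hj2 : orderOf (π j) = 2 := orderOf_eq_two_of hj1 (by rw [← map_mul, involution_sq hj, map_one])
  refine ⟨Cfsg.oddCore G, inferInstance, Or.inl (odd_oddCore G), ?_⟩
  refine conclusion gw A' hnsK hj2 ?_ ?_
  · rw [hCj]
    refine (map_mono D.le_closure).trans ?_
    rw [MonoidHom.map_closure]
    refine closure_mono ?_
    rintro _ ⟨y, hy, rfl⟩
    show π y * π y = 1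
    rw [← map_mul, show y * y = 1 from hy, map_one]
  · intro y t hy ht hne hyj htj hyt
    obtain ⟨y', hy', rfl⟩ : y ∈ H.map π := hCj ▸ mem_centralizer_singleton_iff.2 hyj.eq
    obtain ⟨t', ht', rfl⟩ : t ∈ H.map π := hCj ▸ mem_centralizer_singleton_iff.2 htj.eq
    have htA : t' ∈ A := by
      by_contra h
      have h2 : π t' ^ 2 = 1 := by rw [pow_two, ← map_mul, D.sq t' ht' h, map_one]
      have := orderOf_dvd_of_pow_eq_one h2
      rw [ht] at this
      exact absurd this (by decide)
    by_cases hyA : y' ∈ A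
    · rcases image_involution D hu hyA (involution_sq hy) with h | h
      · exact involution_ne_one hy h
      · exact hne h
    · have h := congrArg π (D.inverts y' hy' hyA t' htA)
      rw [map_mul, map_mul, map_inv, map_inv, hyt.eq, mul_inv_cancel_right] at h
      have h2 : π t' ^ 2 = 1 := by rw [pow_two]; exact mul_eq_one_iff_eq_inv.2 h
      have := orderOf_dvd_of_pow_eq_one h2
      rw [ht] at this
      exact absurd this (by decide)

/-- Semidihedral Sylow 2-subgroups do not occur. -/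
theorem semidihedral_case (gw : CfsgLib.GW.GWStatement.{u}) (D : DG H A) {j : G} (hjA : j ∈ A)
    (hj : orderOf j = 2) (hu : ∀ k ∈ A, orderOf k = 2 → k = j) (hns : ¬ Group.IsSolvable G)
    (P : Sylow 2 G) (hjP : j ∈ (P : Subgroup G)) {z : G} (hzP : z ∈ (P : Subgroup G))
    (hz : orderOf z = 2) (hzH : z ∈ H) (hzA : z ∉ A) (hzc : ∀ p ∈ (P : Subgroup G), p * z = z * p)
    (hS₀ : ∀ Q : Subgroup G, IsPGroup 2 Q → Q ≤ H → Nat.card Q ≤ 4)
    (hqd : Cfsg.IsQuasiDihedral (P : Subgroup G)) : False := by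
  classical
  haveI : Fact (Nat.Prime 2) := ⟨Nat.prime_two⟩
  obtain ⟨m, hcard, ⟨e⟩⟩ := CfsgLib.TwoGroups.SemiDihedral.of_isQuasiDihedral hqd
  have h16 : 16 ≤ Nat.card (P : Subgroup G) := by
    rw [hcard]
    exact le_trans (by norm_num) (Nat.pow_le_pow_right two_pos (show 4 ≤ m + 4 by omega))
  have hez : e ⟨z, hzP⟩ = CfsgLib.TwoGroups.SemiDihedral.rot (CfsgLib.TwoGroups.SemiDihedral.h m) :=
    Semi.eq_rot_h (by rw [e.orderOf_eq, orderOf_mk, hz]) fun v => by
      obtain ⟨p, rfl⟩ := e.surjective v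
      rw [← map_mul, ← map_mul]
      exact congrArg e (Subtype.ext (hzc p p.2))
  have hcases : ∀ x : G, ∀ hx : x ∈ (P : Subgroup G), orderOf x = 2 → x ≠ z →
      e ⟨x, hx⟩ ≠ CfsgLib.TwoGroups.SemiDihedral.rot (CfsgLib.TwoGroups.SemiDihedral.h m) :=
    fun x hx _ hne h => hne (congrArg Subtype.val (e.injective (h.trans hez.symm)))
  have hjz : j ≠ z := fun h => hzA (h ▸ hjA)
  -- `j` is not conjugate to `z`
  have hnj : ∀ g : G, g * j * g⁻¹ ≠ z := by
    intro g hg
    have hle : (P : Subgroup G).map (MulAut.conj g⁻¹).toMonoidHom ≤ H := by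
      rintro _ ⟨p, hp, rfl⟩
      rw [← D.cen j hjA hj, mem_centralizer_singleton_iff]
      show g⁻¹ * p * g⁻¹⁻¹ * j = j * (g⁻¹ * p * g⁻¹⁻¹)
      calc g⁻¹ * p * g⁻¹⁻¹ * j = g⁻¹ * (p * (g * j * g⁻¹)) * g := by group
        _ = g⁻¹ * ((g * j * g⁻¹) * p) * g := by rw [hg, hzc p hp]
        _ = _ := by group
    have := hS₀ _ (P.2.map _) hle
    rw [card_map_of_injective (MulAut.conj g⁻¹).injective] at this
    omega
  -- a normal subgroup of index two avoiding `j`
  set Q : Subgroup G := ((CfsgLib.TwoGroups.SemiDihedral.mix m).comap e.toMonoidHom).map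
    (P : Subgroup G).subtype with hQ
  have hQi : Q.relIndex (P : Subgroup G) = 2 := by
    rw [relIndex, hQ, ← comap_subtype, comap_map_eq_self_of_injective (P : Subgroup G).subtype_injective]
    exact (index_comap_of_surjective _ e.surjective).trans CfsgLib.TwoGroups.SemiDihedral.index_mix
  obtain ⟨M, hMn, hM, hjM⟩ := (CfsgLib.Transfer.thompson_transfer P Q hQi (u := j) hj).resolve_right (by
    rintro ⟨g, ⟨⟨x, hxP⟩, hx, hxg⟩⟩
    change x = g * j * g⁻¹ at hxg
    have hx2 : orderOf x = 2 := by rw [hxg, orderOf_conj, hj]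
    exact Semi.not_mem_mix (by rw [e.orderOf_eq, orderOf_mk, hx2])
      (hcases x hxP hx2 fun h => hnj g (hxg.symm.trans h)) hx)
  haveI := hMn
  -- the only involution of `P` in `M` is `z`
  have honly : ∀ x ∈ (P : Subgroup G), orderOf x = 2 → x ∈ M → x = z := by
    intro x hxP hx hxM
    by_contra hne
    obtain ⟨c, hc⟩ := isConj_iff.1 (Semi.isConj_of_ne (x := e ⟨x, hxP⟩) (y := e ⟨j, hjP⟩)
      (by rw [e.orderOf_eq, orderOf_mk, hx]) (by rw [e.orderOf_eq, orderOf_mk, hj])
      (hcases x hxP hx hne) (hcases j hjP hj hjz))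
    obtain ⟨p, rfl⟩ := e.surjective c
    rw [← map_inv, ← map_mul, ← map_mul, e.injective.eq_iff] at hc
    have hc' : (p : G) * x * (p : G)⁻¹ = j := congrArg Subtype.val hc
    exact hjM (hc' ▸ hMn.conj_mem x hxM p)
  have hconjP : ∀ {E : Subgroup G}, IsPGroup 2 E → ∃ g : G, ∀ x ∈ E, g * x * g⁻¹ ∈ (P : Subgroup G) := by
    intro E hE
    obtain ⟨R, hR⟩ := hE.exists_le_sylow
    obtain ⟨g, hg⟩ := MulAction.exists_smul_eq G R P
    exact ⟨g, fun x hx => by
      rw [← hg, Sylow.coe_subgroup_smul]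
      exact Subgroup.smul_mem_pointwise_smul x _ _ (hR hx)⟩
  have heven : Even (Nat.card M) := by
    by_contra h
    haveI := CfsgLib.OddLocal.FTFinal.odd_order_solvable (Nat.not_even_iff_odd.1 h)
    haveI : IsCyclic (G ⧸ M) := isCyclic_of_prime_card (p := 2) (by rw [← index_eq_card, hM])
    haveI : Group.IsSolvable (G ⧸ M) := Group.isSolvable_of_comm fun a b => IsCyclic.commGroup.mul_comm a b
    exact hns (Group.isSolvable_of_ker_le_range M.subtype (QuotientGroup.mk' M) (by simp))
  have hrank : ∀ E : Subgroup M, ¬ IsKleinFour E := by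
    intro E hE
    have hEp : IsPGroup 2 (E.map M.subtype) := (IsPGroup.of_card (n := 2) (by rw [hE.card_four]; rfl)).map _
    obtain ⟨g, hg⟩ := hconjP hEp
    have huniq : ∀ x : E, x ≠ 1 → g * ((x : M) : G) * g⁻¹ = z := fun x hx => by
      have h2 : ((x : M) : G) * (x : M) = 1 := by
        have h2 : x * x = 1 := by
          have := Monoid.pow_exponent_eq_one x
          rwa [hE.exponent_two, pow_two] at this
        exact congrArg (fun w : E => ((w : M) : G)) h2
      have h1 : ((x : M) : G) ≠ 1 := fun h => hx (Subtype.ext (Subtype.ext h))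
      exact honly _ (hg _ ⟨_, x.2, rfl⟩) (by rw [orderOf_conj, orderOf_eq_two_of h1 h2])
        (hMn.conj_mem _ (x : M).2 g)
    have hsub : ∀ x y : E, x ≠ 1 → y ≠ 1 → x = y := fun x y hx hy =>
      Subtype.ext (Subtype.ext (mul_left_cancel (mul_right_cancel ((huniq x hx).trans (huniq y hy).symm))))
    letI := Fintype.ofFinite E
    have : (Finset.univ.erase (1 : E)).card ≤ 1 := Finset.card_le_one.2 fun x hx y hy =>
      hsub x y (Finset.ne_of_mem_erase hx) (Finset.ne_of_mem_erase hy)
    rw [Finset.card_erase_of_mem (Finset.mem_univ _), Finset.card_univ, ← Nat.card_eq_fintype_card,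
      hE.card_four] at this
    omega
  obtain ⟨⟨z₀, hz₀M⟩, hz₀, N, hNn, hNodd, hN⟩ := Cfsg.Agent.S0225.result heven hrank
  rw [orderOf_mk] at hz₀
  set π := QuotientGroup.mk' (Cfsg.oddCore G) with hπ
  have hNO : N.map M.subtype ≤ Cfsg.oddCore G :=
    (map_mono (CfsgLib.Core.le_pPrimeCore (Nat.coprime_two_right.2 hNodd))).trans
      (CfsgLib.Core.map_subtype_pPrimeCore_le M)
  obtain ⟨g, hg⟩ := hconjP (IsPGroup.of_card (n := 1) (G := zpowers z₀)
    (by rw [Nat.card_zpowers, hz₀, pow_one]))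
  have hgz : g * z₀ * g⁻¹ = z := honly _ (hg _ (mem_zpowers _)) (by rw [orderOf_conj, hz₀])
    (hMn.conj_mem z₀ hz₀M g)
  have hzM : z ∈ M := hgz ▸ hMn.conj_mem z₀ hz₀M g
  have hzcM : ∀ x ∈ M, Commute (π z) (π x) := by
    intro x hx
    have hx' : g⁻¹ * x * g ∈ M := by
      have := hMn.conj_mem x hx g⁻¹
      simpa using this
    have h1 := hNO ⟨_, hN ⟨_, hx'⟩, rfl⟩
    have h2 : z * x * z⁻¹ * x⁻¹ ∈ Cfsg.oddCore G := by
      rw [show z * x * z⁻¹ * x⁻¹ = g * (z₀ * (g⁻¹ * x * g) * z₀⁻¹ * (g⁻¹ * x * g)⁻¹) * g⁻¹ by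
        rw [← hgz]; group]
      exact (inferInstance : (Cfsg.oddCore G).Normal).conj_mem _ h1 g
    have h3 : π (z * x * z⁻¹ * x⁻¹) = 1 := (QuotientGroup.eq_one_iff _).2 h2
    rw [map_mul, map_mul, map_mul, map_inv, map_inv, mul_inv_eq_one, mul_inv_eq_iff_eq_mul] at h3
    exact h3
  have hzcen : π z ∈ center (G ⧸ Cfsg.oddCore G) := by
    rw [mem_center_iff]
    intro q
    obtain ⟨x, rfl⟩ := QuotientGroup.mk'_surjective _ q
    by_cases hx : x ∈ M
    · exact (hzcM x hx).symm.eq
    · have hxj : x * j ∈ M := (mul_mem_iff_of_index_two hM).2 (iff_of_false hx hjM)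
      have h1 : Commute (π z) (π j) := by
        show π z * π j = π j * π z
        rw [← map_mul, ← map_mul, hzc j hjP]
      have h2 := (hzcM _ hxj).mul_right h1.inv_right
      rw [map_mul, mul_inv_cancel_right] at h2
      exact h2.symm.eq
  -- the centraliser of `π j` has order at most four
  have hone : ∀ {w : G}, orderOf w = 2 → π w ≠ 1 := fun {w} hw h => by
    have h2 := (odd_oddCore G).of_dvd_nat
      (Subgroup.orderOf_dvd_natCard _ ((QuotientGroup.eq_one_iff _).1 h : w ∈ Cfsg.oddCore G))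
    rw [hw] at h2
    exact absurd h2 (by decide)
  have hCj : centralizer ({π j} : Set (G ⧸ Cfsg.oddCore G)) = H.map π := by
    rw [← map_centralizer_singleton hj, D.cen j hjA hj]
  have hAim : ∀ a ∈ A, π a = 1 ∨ π a = π j := fun a ha => by
    refine image_involution D hu ha ?_
    have h := congrArg π (D.inverts z hzH hzA a ha)
    rw [map_mul, map_mul, map_inv, map_inv, ← mem_center_iff.1 hzcen, mul_inv_cancel_right] at h
    exact mul_eq_one_iff_eq_inv.2 h
  set K := G ⧸ Cfsg.oddCore G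
  have hC4 : Nat.card (centralizer ({π j} : Set K)) ≤ 4 := by
    have hsub : ((H.map π : Subgroup K) : Set K) ⊆ {1, π j, π z, π j * π z} := by
      rintro _ ⟨h, hh, rfl⟩
      by_cases hA : h ∈ A
      · rcases hAim h hA with e' | e' <;> simp [e']
      · have hhz := D.mul_mem_of_not_mem hh hzH hA hzA
        have hz2 : π z * π z = 1 := by rw [← map_mul, involution_sq hz, map_one]
        rcases hAim _ hhz with e' | e' <;> rw [map_mul] at e'
        · have : π h = π z := by
            rw [← mul_one (π h), ← hz2, ← mul_assoc, e', one_mul]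
          simp [this]
        · have : π h = π j * π z := by
            rw [← e', mul_assoc, hz2, mul_one]
          simp [this]
    rw [hCj, ← SetLike.coe_sort_coe, Nat.card_coe_set_eq]
    refine (Set.ncard_le_ncard hsub (Set.toFinite _)).trans ?_
    refine (Set.ncard_insert_le _ _).trans (Nat.succ_le_succ ?_)
    refine (Set.ncard_insert_le _ _).trans (Nat.succ_le_succ ?_)
    exact (Set.ncard_insert_le _ _).trans (by rw [Set.ncard_singleton])
  -- the quotient by `⟨π z⟩`
  set Z := zpowers (π z) with hZdef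
  haveI : Z.Normal := ⟨fun x hx q => by
    have hxc : x ∈ center K := zpowers_le.2 hzcen hx
    rwa [mem_center_iff.1 hxc q, mul_inv_cancel_right]⟩
  have hz2 : orderOf (π z) = 2 := orderOf_eq_two_of (hone hz) (by rw [← map_mul, involution_sq hz, map_one])
  have hZc : Nat.card Z = 2 := by rw [hZdef, Nat.card_zpowers, hz2]
  have hZmem : ∀ x, x ∈ Z → x = 1 ∨ x = π z := by
    intro x hx
    obtain ⟨k, rfl⟩ := mem_zpowers_iff.1 hx
    rw [← zpow_mod_orderOf, hz2]
    rcases Int.emod_two_eq k with h | h <;> simp [h]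
  have hO : Cfsg.oddCore (K ⧸ Z) = ⊥ := Deps.core_quotient_eq_bot
    (CfsgLib.Core.pPrimeCore_quotient_pPrimeCore 2 G) Z (zpowers_le.2 hzcen) hZc
  have hnsK : ¬ Group.IsSolvable (K ⧸ Z) := not_isSolvable_quotient Z
    (Group.isSolvable_of_comm fun a b => IsCyclic.commGroup.mul_comm a b)
    (not_isSolvable_quotient (Cfsg.oddCore G)
      (CfsgLib.OddLocal.FTFinal.odd_order_solvable (odd_oddCore G)) hns)
  let ρ : G →* K ⧸ Z := (QuotientGroup.mk' Z).comp π
  have hρs : Function.Surjective ρ :=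
    (QuotientGroup.mk'_surjective Z).comp (QuotientGroup.mk'_surjective _)
  let S' := P.mapSurjective hρs
  obtain ⟨f, hf, hfk⟩ := Semi.exists_quotient m
  let f₁ : (P : Subgroup G) →* (S' : Subgroup (K ⧸ Z)) :=
    (ρ.comp (P : Subgroup G).subtype).codRestrict _ fun p => mem_map_of_mem _ p.2
  have hf₁ : Function.Surjective f₁ := by
    rintro ⟨_, a, ha, rfl⟩
    exact ⟨⟨a, ha⟩, rfl⟩
  let f₂ : (P : Subgroup G) →* DihedralGroup (2 ^ (m + 2)) := f.comp e.toMonoidHom
  have hker : f₁.ker = f₂.ker := by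
    ext p
    rw [MonoidHom.mem_ker, MonoidHom.mem_ker, show f₂ p = f (e p) from rfl, hfk, ← map_one e,
      e.injective.eq_iff, ← hez, e.injective.eq_iff]
    constructor
    · intro h
      have hpZ : π p ∈ Z := (QuotientGroup.eq_one_iff _).1 (congrArg Subtype.val h)
      have hlift : ∀ w : G, w ∈ (P : Subgroup G) → π w = 1 → w = 1 := fun w hw hw1 => by
        have hmem : w ∈ Cfsg.oddCore G := (QuotientGroup.eq_one_iff _).1 hw1
        refine Subgroup.disjoint_def.1 (disjoint_iff.2 ?_) hw hmem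
        exact inf_eq_bot_of_coprime ((IsPGroup.iff_card.1 P.2).choose_spec ▸
          ((CfsgLib.Core.coprime_card_pPrimeCore 2 G).symm.pow_left _))
      rcases hZmem _ hpZ with h1 | h1
      · exact Or.inl (Subtype.ext (hlift _ p.2 h1))
      · exact Or.inr (Subtype.ext (inv_mul_eq_one.1 (hlift ((p : G)⁻¹ * z)
          (mul_mem (inv_mem p.2) hzP) (by rw [map_mul, map_inv, h1, inv_mul_cancel]))))
    · rintro (h | h)
      · rw [h, map_one]
      · refine Subtype.ext ((QuotientGroup.eq_one_iff _).2 ?_)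
        show π (p : G) ∈ Z
        rw [h]
        exact mem_zpowers _
  let eS : (S' : Subgroup (K ⧸ Z)) ≃* DihedralGroup (2 ^ (m + 2)) :=
    (QuotientGroup.quotientKerEquivOfSurjective f₁ hf₁).symm.trans
      ((QuotientGroup.quotientMulEquivOfEq hker).trans
        (QuotientGroup.quotientKerEquivOfSurjective f₂ (hf.comp e.surjective)))
  have h8 : 8 ≤ Nat.card (S' : Subgroup (K ⧸ Z)) := by
    rw [Nat.card_congr eS.toEquiv, DihedralGroup.nat_card]
    have := Nat.pow_le_pow_right two_pos (show 2 ≤ m + 2 by omega)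
    omega
  have hjZ : π j ∉ Z := fun h => by
    rcases hZmem _ h with h' | h'
    · exact hone hj h'
    · -- `j z` would be odd
      have h1 : π (j * z) = 1 := by rw [map_mul, h', ← map_mul, involution_sq hz, map_one]
      refine hone (orderOf_eq_two_of (fun e' => hjz ?_) ?_) h1
      · exact (mul_eq_one_iff_eq_inv.1 e').trans (inv_eq_of_mul_eq_one_right (involution_sq hz))
      · rw [show j * z * (j * z) = j * (z * j) * z by group, ← hzc j hjP,
          show j * (j * z) * z = (j * j) * (z * z) by group, involution_sq hj, involution_sq hz, one_mul]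
  have hj2 : orderOf (QuotientGroup.mk' Z (π j)) = 2 :=
    orderOf_eq_two_of (fun h => hjZ ((QuotientGroup.eq_one_iff _).1 h))
      (by rw [← map_mul, ← map_mul, involution_sq hj, map_one, map_one])
  have hbig := four_lt_centralizer gw (ambient_of_sylow_core hO S' (by omega) eS) hnsK S' h8 hj2
  set W := (centralizer ({QuotientGroup.mk' Z (π j)} : Set (K ⧸ Z))).comap (QuotientGroup.mk' Z)
  have hWc : Nat.card W = Nat.card Z * Nat.card (centralizer ({QuotientGroup.mk' Z (π j)} : Set (K ⧸ Z))) :=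
    CfsgLib.Core.card_comap_mk' Z _
  rw [hZc] at hWc
  have hCW : centralizer ({π j} : Set K) ≤ W := fun x hx => by
    refine mem_centralizer_singleton_iff.2 ?_
    rw [← map_mul, mem_centralizer_singleton_iff.1 hx, map_mul]
  have hmove : ∀ w ∈ W, w ∉ centralizer ({π j} : Set K) → w * π j * w⁻¹ = π j * π z := by
    intro w hw hwC
    have h := mem_centralizer_singleton_iff.1 (mem_comap.1 hw)
    have hd : (π j)⁻¹ * (w * π j * w⁻¹) ∈ Z := by
      rw [← QuotientGroup.eq_one_iff]
      show QuotientGroup.mk' Z ((π j)⁻¹ * (w * π j * w⁻¹)) = 1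
      rw [map_mul, map_mul, map_mul, map_inv, map_inv, h, mul_inv_cancel_right, inv_mul_cancel]
    rcases hZmem _ hd with h1 | h1
    · exact absurd (mem_centralizer_singleton_iff.2
        (mul_inv_eq_iff_eq_mul.1 (inv_mul_eq_one.1 h1).symm)) hwC
    · rw [inv_mul_eq_iff_eq_mul] at h1
      exact h1
  have hW8 : Nat.card W ≤ 8 := by
    by_cases hWC : W ≤ centralizer ({π j} : Set K)
    · exact (card_le_of_le hWC).trans (hC4.trans (by norm_num))
    obtain ⟨a, haW, haC⟩ := SetLike.not_le_iff_exists.1 hWC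
    have hidx : (centralizer ({π j} : Set K)).relIndex W = 2 := by
      refine relIndex_eq_two_iff.2 ⟨a, haW, fun b hb => ?_⟩
      by_cases hbC : b ∈ centralizer ({π j} : Set K)
      · exact Or.inr ⟨hbC, fun h => haC ((mul_mem_cancel_left hbC).1 h)⟩
      · refine Or.inl ⟨mem_centralizer_singleton_iff.2 ?_, hbC⟩
        have h1 : b * a * π j * (b * a)⁻¹ = π j := by
          calc b * a * π j * (b * a)⁻¹ = b * (a * π j * a⁻¹) * b⁻¹ := by group
            _ = b * π j * b⁻¹ * (b * π z * b⁻¹) := by rw [hmove a haW haC]; group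
            _ = π j * π z * π z := by
              rw [hmove b hb hbC, mem_center_iff.1 hzcen b, mul_inv_cancel_right]
            _ = π j := by rw [mul_assoc, ← map_mul, involution_sq hz, map_one, mul_one]
        exact mul_inv_eq_iff_eq_mul.1 h1
    have hmul := ((centralizer ({π j} : Set K)).subgroupOf W).card_mul_index
    rw [Nat.card_congr (subgroupOfEquivOfLe hCW).toEquiv] at hmul
    rw [relIndex] at hidx
    rw [hidx] at hmul
    have hfin : Nat.card W = Nat.card (centralizer ({π j} : Set K)) * 2 := hmul.symm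
    omega
  omega

/-- The case of a unique involution in `A`. -/
theorem one_involution_case (gw : CfsgLib.GW.GWStatement.{u}) (D : DG H A) {j : G} (hjA : j ∈ A)
    (hj : orderOf j = 2) (hu : ∀ k ∈ A, orderOf k = 2 → k = j) (hns : ¬ Group.IsSolvable G) :
    ∃ (N : Subgroup G) (_ : N.Normal), (Odd (Nat.card N) ∨ ∃ m : ℕ, Odd m ∧ Nat.card N = 2 * m) ∧
      ∃ (F : Type) (_ : Field F) (_ : Fintype F), 3 < Fintype.card F ∧
        (Nonempty (G ⧸ N ≃* Matrix.ProjectiveSpecialLinearGroup (Fin 2) F) ∨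
          Nonempty (G ⧸ N ≃* Matrix.ProjGenLinGroup (Fin 2) F)) := by
  classical
  haveI : Fact (Nat.Prime 2) := ⟨Nat.prime_two⟩
  obtain ⟨S₀, hS₀⟩ := (IsPGroup.of_card (n := 1) (G := zpowers (⟨j, D.le hjA⟩ : H))
    (by rw [Nat.card_zpowers, orderOf_mk, hj, pow_one])).exists_le_sylow
  obtain ⟨P, hP⟩ := (S₀.2.map H.subtype).exists_le_sylow
  have hjP : j ∈ (P : Subgroup G) := hP ⟨_, hS₀ (mem_zpowers _), rfl⟩
  set S := (S₀ : Subgroup H).map H.subtype with hS
  have hSH : S ≤ H := map_subtype_le _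
  have hSA : ¬ S ≤ A := D.not_le hSH (by
    rw [hS, ← comap_subtype, comap_map_eq_self_of_injective H.subtype_injective]
    exact S₀.not_dvd_index)
  obtain ⟨b, hbS, hbA⟩ := SetLike.not_le_iff_exists.1 hSA
  set T : Subgroup (P : Subgroup G) := A.subgroupOf (P : Subgroup G) with hT
  by_cases hPH : (P : Subgroup G) ≤ H
  · -- the Sylow subgroup is dihedral
    have hTc : IsCyclic T := by
      haveI : IsMulCommutative T := ⟨⟨fun x y => Subtype.ext (Subtype.ext
        (D.comm _ (mem_subgroupOf.1 x.2) _ (mem_subgroupOf.1 y.2)))⟩⟩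
      have hgen : ∀ B : Subgroup T, Nat.card B = 2 → ∃ x ∈ B, ((x : (P : Subgroup G)) : G) = j ∧ B = zpowers x := by
        intro B hB
        obtain ⟨⟨x, hx⟩, hx2⟩ := exists_prime_orderOf_dvd_card' (G := B) 2 (by rw [hB])
        rw [orderOf_mk] at hx2
        refine ⟨x, hx, hu _ (mem_subgroupOf.1 x.2) (by rw [orderOf_coe, orderOf_coe, hx2]), ?_⟩
        exact (eq_of_le_of_card_ge (zpowers_le.2 hx) (by rw [hB, Nat.card_zpowers, hx2])).symm
      haveI : IsMulCommutative (⊤ : Subgroup T) := ⟨⟨fun x y => Subtype.ext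
        ((inferInstance : IsMulCommutative T).is_comm.comm (x : T) y)⟩⟩
      have := CfsgLib.Core.UniqueOrderP.isCyclic_of_unique (P.2.to_subgroup T) (fun B C hB hC => by
        obtain ⟨x, -, hx, rfl⟩ := hgen B hB
        obtain ⟨y, -, hy, rfl⟩ := hgen C hC
        rw [show x = y from Subtype.ext (Subtype.ext (hx.trans hy.symm))]) ⊤
      exact isCyclic_of_surjective _ Subgroup.topEquiv.surjective
    obtain ⟨a, ha⟩ := IsCyclic.exists_generator (α := T)
    have hb' : (⟨b, hP hbS⟩ : (P : Subgroup G)) ∉ T := fun h => hbA (mem_subgroupOf.1 h)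
    have hTi : T.index = 2 := by
      refine index_eq_two_iff.2 ⟨⟨b, hP hbS⟩, fun x => ?_⟩
      by_cases hx : x ∈ T
      · exact Or.inr ⟨hx, fun h => hb' ((mul_mem_cancel_left hx).1 h)⟩
      · exact Or.inl ⟨mem_subgroupOf.2 (D.mul_mem_of_not_mem (hPH x.2) (hSH hbS)
          (fun h => hx (mem_subgroupOf.2 h)) hbA), hx⟩
    have hcT : orderOf (a : (P : Subgroup G)) = Nat.card T := by
      rw [orderOf_coe, orderOf_eq_card_of_forall_mem_zpowers ha]
    have h2T : 2 ≤ Nat.card T := by
      refine Nat.le_of_dvd Nat.card_pos ?_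
      have h := orderOf_dvd_natCard (⟨⟨j, hjP⟩, mem_subgroupOf.2 hjA⟩ : T)
      rw [Subgroup.orderOf_mk, Subgroup.orderOf_mk, hj] at h
      exact h
    haveI : NeZero (Nat.card T) := ⟨by omega⟩
    obtain ⟨eP⟩ := CfsgLib.TwoGroups.nonempty_mulEquiv_dihedralGroup (n := Nat.card T)
      (a := (a : (P : Subgroup G))) (b := ⟨b, hP hbS⟩) hcT
      (Subtype.ext (D.sq b (hSH hbS) hbA))
      (fun h => hb' (zpowers_le.2 a.2 h))
      (Subtype.ext (D.inverts b (hSH hbS) hbA _ (mem_subgroupOf.1 a.2)))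
      (by rw [← T.card_mul_index, hTi, mul_comm])
    obtain ⟨n, f, hn, -, hf, hfS⟩ := CfsgLib.TwoGroups.Dihedral.exists_model h2T eP
    exact dihedral_case gw D hjA hj hu hns P hn
      ((MonoidHom.ofInjective hf).trans (MulEquiv.subgroupCongr hfS)).symm
  · -- `j` is not central
    haveI : Nontrivial (P : Subgroup G) := ⟨⟨j, hjP⟩, 1, fun h => involution_ne_one hj (congrArg Subtype.val h)⟩
    haveI : Nontrivial (center (P : Subgroup G)) := P.2.center_nontrivial
    have hne : (center (P : Subgroup G)).map (P : Subgroup G).subtype ≠ ⊥ := by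
      rw [Ne, map_eq_bot_iff_of_injective _ (P : Subgroup G).subtype_injective]
      exact (nontrivial_iff_ne_bot _).1 inferInstance
    obtain ⟨z, ⟨⟨z', hzP⟩, hz', rfl⟩, hz⟩ :=
      CfsgLib.Signalizer.exists_involution_of_two_group ((P.2.to_subgroup _).map _) hne
    change orderOf z' = 2 at hz
    have hzc : ∀ p ∈ (P : Subgroup G), p * z' = z' * p := fun p hp =>
      congrArg Subtype.val (mem_center_iff.1 hz' ⟨p, hp⟩)
    have hzH : z' ∈ H := by
      rw [← D.cen j hjA hj, mem_centralizer_singleton_iff]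
      exact (hzc j hjP).symm
    have hzA : z' ∉ A := fun h => hPH fun p hp => by
      rw [← D.cen z' h hz, mem_centralizer_singleton_iff]
      exact hzc p hp
    have hsmall : ∀ a ∈ A, a ∈ (P : Subgroup G) → a = 1 ∨ a = j := by
      intro a ha haP
      have h := D.inverts z' hzH hzA a ha
      rw [← hzc a haP, mul_inv_cancel_right] at h
      rcases eq_or_ne a 1 with h1 | h1
      · exact Or.inl h1
      · exact Or.inr (hu a ha (orderOf_eq_two_of h1 (mul_eq_one_iff_eq_inv.2 h)))
    have hC : Nat.card (centralizer ({⟨j, hjP⟩} : Set (P : Subgroup G))) = 4 := by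
      set C := centralizer ({⟨j, hjP⟩} : Set (P : Subgroup G))
      have hCH : ∀ x ∈ C, (x : G) ∈ H := fun x hx => by
        rw [← D.cen j hjA hj, mem_centralizer_singleton_iff]
        exact congrArg Subtype.val (mem_centralizer_singleton_iff.1 hx)
      have hzC : (⟨z', hzP⟩ : (P : Subgroup G)) ∈ C :=
        mem_centralizer_singleton_iff.2 (Subtype.ext (hzc j hjP).symm)
      have hTC : T ≤ C := fun x hx => mem_centralizer_singleton_iff.2
        (Subtype.ext (D.comm _ (mem_subgroupOf.1 hx) j hjA))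
      have hidx : T.relIndex C = 2 := by
        refine relIndex_eq_two_iff.2 ⟨⟨z', hzP⟩, hzC, fun x hx => ?_⟩
        by_cases hxT : x ∈ T
        · exact Or.inr ⟨hxT, fun h => hzA (mem_subgroupOf.1 ((mul_mem_cancel_left hxT).1 h))⟩
        · exact Or.inl ⟨mem_subgroupOf.2 (D.mul_mem_of_not_mem (hCH x hx) hzH
            (fun h => hxT (mem_subgroupOf.2 h)) hzA), hxT⟩
      have hT2 : Nat.card T = 2 := by
        rw [Nat.card_eq_two_iff]
        refine ⟨1, ⟨⟨j, hjP⟩, mem_subgroupOf.2 hjA⟩, fun h => involution_ne_one hj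
          (congrArg (fun w : T => ((w : (P : Subgroup G)) : G)) h).symm, Set.eq_univ_of_forall fun x => ?_⟩
        rcases hsmall _ (mem_subgroupOf.1 x.2) (x : (P : Subgroup G)).2 with h | h
        · exact Or.inl (Subtype.ext (Subtype.ext h))
        · exact Or.inr (Subtype.ext (Subtype.ext h))
      have hmul := (T.subgroupOf C).card_mul_index
      rw [Nat.card_congr (subgroupOfEquivOfLe hTC).toEquiv, hT2] at hmul
      rw [relIndex] at hidx
      rw [hidx] at hmul
      omega
    have hS4 : ∀ Q : Subgroup G, IsPGroup 2 Q → Q ≤ H → Nat.card Q ≤ 4 := by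
      intro Q hQ hQH
      obtain ⟨R, hR⟩ := (hQ.comap_subtype (K := H)).exists_le_sylow
      have h1 : Nat.card Q ≤ Nat.card (R : Subgroup H) := by
        rw [← Nat.card_congr (subgroupOfEquivOfLe hQH).toEquiv]
        exact card_le_of_le hR
      refine h1.trans ((Nat.card_congr (R.equiv S₀).toEquiv).trans_le ?_)
      rw [← hC]
      let f : ↥(S₀ : Subgroup H) → centralizer ({⟨j, hjP⟩} : Set (P : Subgroup G)) := fun s =>
        ⟨⟨((s : H) : G), hP ⟨(s : H), s.2, rfl⟩⟩, mem_centralizer_singleton_iff.2 (Subtype.ext (by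
          have hs : ((s : H) : G) ∈ centralizer ({j} : Set G) := by
            rw [D.cen j hjA hj]; exact (s : H).2
          exact mem_centralizer_singleton_iff.1 hs))⟩
      refine Nat.card_le_card_of_injective f fun s t h => Subtype.ext (Subtype.ext ?_)
      exact congrArg (fun w : centralizer ({⟨j, hjP⟩} : Set (P : Subgroup G)) =>
        ((w : (P : Subgroup G)) : G)) h
    have hj' : orderOf (⟨j, hjP⟩ : (P : Subgroup G)) = 2 := by rw [orderOf_mk, hj]
    rcases Cfsg.Agent.S3224.result P.2 ⟨j, hjP⟩ hj' hC with ⟨n, ⟨e⟩⟩ | hqd | h4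
    · have hn2 : 2 ≤ n := by
        have h := DihedralGroup.nat_card (n := n)
        rw [← Nat.card_congr e.toEquiv] at h
        have h4 := (card_subgroup_dvd_card (centralizer ({⟨j, hjP⟩} : Set (P : Subgroup G))))
        rw [hC, h] at h4
        have hpos : 0 < Nat.card (P : Subgroup G) := Nat.card_pos
        omega
      obtain ⟨k, f, hk, -, hf, hfS⟩ := CfsgLib.TwoGroups.Dihedral.exists_model hn2 e
      exact dihedral_case gw D hjA hj hu hns P hk
        ((MonoidHom.ofInjective hf).trans (MulEquiv.subgroupCongr hfS)).symm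
    · exact (semidihedral_case gw D hjA hj hu hns P hjP hzP hz hzH hzA hzc hS4 hqd).elim
    · exfalso
      refine hPH fun p hp => ?_
      have htop : centralizer ({⟨j, hjP⟩} : Set (P : Subgroup G)) = ⊤ :=
        eq_top_of_card_eq _ (hC.trans h4.symm)
      rw [← D.cen j hjA hj, mem_centralizer_singleton_iff]
      have hmem : (⟨p, hp⟩ : (P : Subgroup G)) ∈ centralizer ({⟨j, hjP⟩} : Set (P : Subgroup G)) := by
        rw [htop]; exact mem_top _
      exact congrArg Subtype.val (mem_centralizer_singleton_iff.1 hmem)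

/-- **S3322** given Gorenstein-Walter. -/
theorem chz4_of_gw (gw : CfsgLib.GW.GWStatement.{u}) (H A : Subgroup G) (hAH : A < H)
    (hD : ∀ x ∈ H, x ∉ A → x ^ 2 = 1) (h4 : 4 ∣ Nat.card ↥H)
    (hC : ∀ j ∈ H, orderOf j = 2 → (∀ h ∈ H, h * j = j * h) → centralizer ({j} : Set G) = H)
    (hns : ¬ Group.IsSolvable G) :
    ∃ (N : Subgroup G) (_ : N.Normal), (Odd (Nat.card ↥N) ∨ ∃ m : ℕ, Odd m ∧ Nat.card ↥N = 2 * m) ∧
      ∃ (F : Type) (_ : Field F) (_ : Fintype F), 3 < Fintype.card F ∧
        (Nonempty (G ⧸ N ≃* Matrix.ProjectiveSpecialLinearGroup (Fin 2) F) ∨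
          Nonempty (G ⧸ N ≃* Matrix.ProjGenLinGroup (Fin 2) F)) := by
  rcases dg_or_elementary H A hAH hD h4 hC with h | D
  · exact elementary_case H h h4 hC hns
  obtain ⟨j, hjA, hj⟩ := D.even
  by_cases hu : ∀ k ∈ A, orderOf k = 2 → k = j
  · exact one_involution_case gw D hjA hj hu hns
  · push Not at hu
    obtain ⟨k, hkA, hk, hne⟩ := hu
    exact two_involutions_case D hjA hkA hj hk hne.symm hns

end CfsgLib.GW.DGroup
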