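import Cfsg.Agent.Lib.GW.KFactsProof.Linear

/-!
# Outer involutory inner-diagonal automorphisms of `PSL(2, q)`

For odd `q ≥ 5` such an automorphism fixes an element of order greater than two; a group between
`Inn` and `InnDiag` that is not `Inn` is `PGL(2, q)`.
-/

set_option autoImplicit false

namespace CfsgLib.GW.DGroup

open Matrix
open CfsgLib.Known.AutPSL
open CfsgLib.GW.KFactsProof

variable {F : Type*} [Field F]

theorem exists_innDiag [Fintype F] {α : MulAut (PSL 2 F)} (hf : fld α = 1) :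
    ∃ g : GL (Fin 2) F, α = innDiag 2 F g := by
  obtain ⟨g, σ, rfl⟩ := exists_semilin α
  rw [fld_semilin] at hf
  exact ⟨g, by rw [innDiag_apply, hf]; rfl⟩

theorem innDiag_mem_inn_iff (g : GL (Fin 2) F) :
    innDiag 2 F g ∈ Cfsg.Inn (PSL 2 F) ↔ ∃ c : Fˣ, GeneralLinearGroup.det g = c ^ 2 := by
  rw [innDiag_apply, ← mkAut_false, mem_inn_iff le_rfl _ _ _ (fun _ => rfl)]
  exact ⟨fun h => h.2.2, fun h => ⟨rfl, rfl, h⟩⟩

/-- An involutory outer diagonal automorphism fixes an element of order greater than two. -/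
theorem exists_fixed_sq_ne [Fintype F] (h2 : (2 : F) ≠ 0) (h4 : 4 ≤ Fintype.card F)
    {α : MulAut (PSL 2 F)} (h : α * α = 1) (hf : fld α = 1) (hout : α ∉ Cfsg.Inn (PSL 2 F)) :
    ∃ y : PSL 2 F, α y = y ∧ y * y ≠ 1 := by
  classical
  obtain ⟨g, rfl⟩ := exists_innDiag hf
  set M := (g : Matrix (Fin 2) (Fin 2) F) with hM
  rw [← map_mul, innDiag_eq_one_iff le_rfl] at h
  obtain ⟨c, hc⟩ := h
  rw [Units.val_mul, ← hM] at hc
  have hns : ¬ ∃ d : F, M = d • 1 := fun hd =>
    hout ((innDiag_eq_one_iff le_rfl g).2 hd ▸ one_mem _)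
  have e00 := congrFun₂ hc 0 0
  have e01 := congrFun₂ hc 0 1
  have e10 := congrFun₂ hc 1 0
  have e11 := congrFun₂ hc 1 1
  simp [Matrix.mul_apply, Fin.sum_univ_two] at e00 e01 e10 e11
  have htr : M 1 1 = -M 0 0 := by
    by_contra htr
    have ht : M 0 0 + M 1 1 ≠ 0 := fun e => htr (eq_neg_of_add_eq_zero_right e)
    have h01 : M 0 1 = 0 := (mul_eq_zero.1 (show M 0 1 * (M 0 0 + M 1 1) = 0 by
      linear_combination e01)).resolve_right ht
    have h10 : M 1 0 = 0 := (mul_eq_zero.1 (show M 1 0 * (M 0 0 + M 1 1) = 0 by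
      linear_combination e10)).resolve_right ht
    have hd : M 0 0 = M 1 1 := sub_eq_zero.1 ((mul_eq_zero.1
      (show (M 0 0 - M 1 1) * (M 0 0 + M 1 1) = 0 by linear_combination e00 - e11)).resolve_right ht)
    refine hns ⟨M 0 0, ?_⟩
    ext i k
    fin_cases i <;> fin_cases k <;> simp [h01, h10, hd]
  have hdet : M 0 0 * M 1 1 - M 0 1 * M 1 0 = -c := by rw [htr]; linear_combination -e00
  have hdet0 : c ≠ 0 := by
    intro h0
    refine (GeneralLinearGroup.det g).ne_zero ?_
    rw [GeneralLinearGroup.val_det_apply, ← hM, Matrix.det_fin_two, hdet, h0, neg_zero]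
  have hnsq : ¬ IsSquare (-c) := by
    rintro ⟨s, hs⟩
    have hs0 : s ≠ 0 := fun e => hdet0 (by rw [e, mul_zero] at hs; exact neg_eq_zero.1 hs)
    refine hout ((innDiag_mem_inn_iff g).2 ⟨Units.mk0 s hs0, Units.ext ?_⟩)
    rw [GeneralLinearGroup.val_det_apply, ← hM, Matrix.det_fin_two, hdet, hs, Units.val_pow_eq_pow_val,
      Units.val_mk0, pow_two]
  obtain ⟨t, ht0, ht⟩ : ∃ t : F, t ≠ 0 ∧ c ^ 2 * t ^ 4 ≠ 1 := by
    by_contra hno
    push Not at hno
    have hc2 : c ^ 2 = 1 := by simpa using hno 1 one_ne_zero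
    have h4t : ∀ t : F, t ≠ 0 → t ^ 4 = 1 := fun t ht => by simpa [hc2] using hno t ht
    obtain ⟨t, ht⟩ : ∃ t : F, t ∉ ({0, 1, -1} : Finset F) := by
      by_contra hno'
      push Not at hno'
      have h5 := Finset.card_le_card (s := Finset.univ) (t := ({0, 1, -1} : Finset F)) fun x _ => hno' x
      rw [Finset.card_univ] at h5
      exact absurd (h4.trans h5) (by
        have := Finset.card_le_three (a := (0 : F)) (b := 1) (c := -1)
        omega)
    simp only [Finset.mem_insert, Finset.mem_singleton, not_or] at ht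
    have hi : t * t = -1 := by
      have h0 : (t - 1) * ((t + 1) * (t * t + 1)) = 0 := by linear_combination h4t t ht.1
      rcases mul_eq_zero.1 h0 with e | e
      · exact absurd (sub_eq_zero.1 e) ht.2.1
      rcases mul_eq_zero.1 e with e | e
      · exact absurd (eq_neg_of_add_eq_zero_left e) ht.2.2
      · exact eq_neg_of_add_eq_zero_left e
    have hc' : (c - 1) * (c + 1) = 0 := by linear_combination hc2
    rcases mul_eq_zero.1 hc' with e | e
    · exact hnsq ⟨t, by rw [hi, sub_eq_zero.1 e]⟩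
    · exact hnsq ⟨1, by rw [eq_neg_of_add_eq_zero_left e, neg_neg, mul_one]⟩
  have hd1 : 1 - c * t ^ 2 ≠ 0 := fun e => ht (by linear_combination (-(1 + c * t ^ 2)) * e)
  have hd2 : 1 + c * t ^ 2 ≠ 0 := fun e => ht (by linear_combination (-(1 - c * t ^ 2)) * e)
  set x : F := (1 + c * t ^ 2) / (1 - c * t ^ 2) with hx
  set y : F := 2 * t / (1 - c * t ^ 2) with hy
  have hx0 : x ≠ 0 := div_ne_zero hd2 hd1
  have hy0 : y ≠ 0 := div_ne_zero (mul_ne_zero h2 ht0) hd1
  have hnorm : x ^ 2 - c * y ^ 2 = 1 := by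
    rw [hx, hy]
    field_simp
    ring
  clear_value x y
  let s : SL 2 F := ⟨x • 1 + y • M, by
    rw [Matrix.det_fin_two]
    simp [htr] at hdet ⊢
    linear_combination hnorm + y ^ 2 * hdet⟩
  refine ⟨proj 2 F s, ?_, fun e => ?_⟩
  · rw [innDiag_apply, semilin_proj]
    congr 1
    refine Subtype.ext ?_
    rw [coe_slConjHom]
    show M * (x • 1 + y • M).map (RingEquiv.refl F) *
      ((g⁻¹ : GL (Fin 2) F) : Matrix (Fin 2) (Fin 2) F) = x • 1 + y • M
    have hcm : M * (x • 1 + y • M) = (x • 1 + y • M) * M := by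
      rw [mul_add, add_mul, Matrix.mul_smul, Matrix.mul_smul, Matrix.smul_mul, Matrix.smul_mul, mul_one,
        one_mul]
    rw [show (x • 1 + y • M).map (RingEquiv.refl F) = x • 1 + y • M by ext; rfl, hcm, mul_assoc,
      hM, Units.mul_inv, mul_one]
  · rw [← map_mul, ← map_one (proj 2 F), proj_eq_iff] at e
    obtain ⟨d, hd0, hd⟩ := e
    rw [Matrix.SpecialLinearGroup.coe_one, Matrix.SpecialLinearGroup.coe_mul] at hd
    have f01 := congrFun₂ hd 0 1
    have f10 := congrFun₂ hd 1 0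
    have f00 := congrFun₂ hd 0 0
    have f11 := congrFun₂ hd 1 1
    simp [s, Matrix.mul_apply, Fin.sum_univ_two, htr] at f01 f10 f00 f11
    replace f01 := f01.resolve_left hd0
    replace f10 := f10.resolve_left hd0
    have hxy : 2 * (x * y) ≠ 0 := mul_ne_zero h2 (mul_ne_zero hx0 hy0)
    have hk : d * (2 * (x * y)) ≠ 0 := mul_ne_zero hd0 hxy
    have m01 : M 0 1 = 0 := (mul_eq_zero.1 (show M 0 1 * (2 * (x * y)) = 0 by
      linear_combination f01)).resolve_right hxy
    have m10 : M 1 0 = 0 := (mul_eq_zero.1 (show M 1 0 * (2 * (x * y)) = 0 by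
      linear_combination f10)).resolve_right hxy
    have m00 : M 0 0 = 0 := by
      have hk2 : d * (2 * (x * y)) * 2 ≠ 0 := mul_ne_zero hk h2
      exact (mul_eq_zero.1 (show M 0 0 * (d * (2 * (x * y)) * 2) = 0 by
        linear_combination f11 - f00)).resolve_right hk2
    refine hns ⟨0, ?_⟩
    ext i k
    fin_cases i <;> fin_cases k <;> simp [m01, m10, m00, htr]

/-- A group of inner-diagonal automorphisms strictly containing `Inn` is everything. -/
theorem range_innDiag_le [Fintype F] (h2 : (2 : F) ≠ 0) {D : Subgroup (MulAut (PSL 2 F))}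
    (hI : Cfsg.Inn (PSL 2 F) ≤ D) {α : MulAut (PSL 2 F)} (hα : α ∈ D) (hf : fld α = 1)
    (hout : α ∉ Cfsg.Inn (PSL 2 F)) : (innDiag 2 F).range ≤ D := by
  classical
  rintro _ ⟨g, rfl⟩
  obtain ⟨g₀, rfl⟩ := exists_innDiag hf
  rw [innDiag_mem_inn_iff] at hout
  by_cases hg : innDiag 2 F g ∈ Cfsg.Inn (PSL 2 F)
  · exact hI hg
  rw [innDiag_mem_inn_iff] at hg
  have hns : ∀ u : Fˣ, (¬ ∃ c : Fˣ, u = c ^ 2) → ¬ IsSquare (u : F) := by
    rintro u hu ⟨s, hs⟩
    have hs0 : s ≠ 0 := fun e => u.ne_zero (by rw [hs, e, mul_zero])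
    exact hu ⟨Units.mk0 s hs0, Units.ext (by rw [hs, Units.val_pow_eq_pow_val, Units.val_mk0, pow_two])⟩
  have key : innDiag 2 F (g * g₀⁻¹) ∈ Cfsg.Inn (PSL 2 F) := by
    rw [innDiag_mem_inn_iff]
    set a := GeneralLinearGroup.det g
    set b := GeneralLinearGroup.det g₀
    have ha := hns a hg
    have hb := hns b hout
    obtain ⟨s, hs⟩ : IsSquare ((a : F) * ((b⁻¹ : Fˣ) : F)) := by
      have hchar : ringChar F ≠ 2 := fun e => h2 (by
        have := ringChar.Nat.cast_ringChar (R := F)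
        rw [e] at this
        exact_mod_cast this)
      have hq := (quadraticChar_neg_one_iff_not_isSquare).2 ha
      have hq' : quadraticChar F ((b⁻¹ : Fˣ) : F) = -1 := by
        refine (quadraticChar_neg_one_iff_not_isSquare).2 fun ⟨r, hr⟩ => hb ⟨r⁻¹, ?_⟩
        rw [← mul_inv, ← hr, Units.val_inv_eq_inv_val, inv_inv]
      refine (quadraticChar_one_iff_isSquare (mul_ne_zero a.ne_zero (Units.ne_zero _))).1 ?_
      rw [map_mul, hq, hq']; rfl
    have hs0 : s ≠ 0 := fun e => mul_ne_zero a.ne_zero (Units.ne_zero b⁻¹) (by rw [hs, e, mul_zero])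
    refine ⟨Units.mk0 s hs0, Units.ext ?_⟩
    rw [map_mul, map_inv, Units.val_mul, hs, Units.val_pow_eq_pow_val, Units.val_mk0, pow_two]
  have := mul_mem (hI key) hα
  rwa [← map_mul, inv_mul_cancel_right] at this

/-- The inner-diagonal automorphisms form `PGL(2, F)`. -/
theorem range_innDiag_equiv [Fintype F] :
    Nonempty ((innDiag 2 F).range ≃* Matrix.ProjGenLinGroup (Fin 2) F) := by
  have hker : (innDiag 2 F).ker = Subgroup.center (GL (Fin 2) F) := by
    ext g
    rw [MonoidHom.mem_ker, innDiag_eq_one_iff le_rfl, GeneralLinearGroup.center_eq_range_scalar]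
    constructor
    · rintro ⟨c, hc⟩
      have hc0 : c ≠ 0 := fun e => (GeneralLinearGroup.det g).ne_zero (by
        rw [GeneralLinearGroup.val_det_apply, hc, e, zero_smul]; simp)
      refine ⟨Units.mk0 c hc0, Units.ext ?_⟩
      rw [hc]
      simp [Matrix.smul_one_eq_diagonal]
    · rintro ⟨u, rfl⟩
      exact ⟨u, by simp [Matrix.smul_one_eq_diagonal]⟩
  exact ⟨(QuotientGroup.quotientKerEquivRange (innDiag 2 F)).symm.trans
    (QuotientGroup.quotientMulEquivOfEq hker)⟩

end CfsgLib.GW.DGroup
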